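import Cfsg.Agent.Lib.Blocks.CentralDefect
import Cfsg.Agent.Lib.Blocks.CoveringDefect
import Cfsg.Agent.Lib.Blocks.CoveringConstituents
import Cfsg.Agent.Lib.Blocks.NormalDefect.Inertia
import Cfsg.Agent.Lib.Char.MeanValue
import Cfsg.Agent.Lib.Char.Projective
import Mathlib.GroupTheory.FiniteAbelian.Duality
import Mathlib.Analysis.Complex.Basic

/-!
# The covered block of the centralizer of a normal abelian defect group

The covered block has one character for each linear character of the defect group, all of one degree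
and all agreeing on the elements of order prime to `p`.
-/

set_option autoImplicit false
set_option linter.unusedSectionVars false
set_option linter.style.haveILetI false

namespace CfsgLib.Blocks.ThreeChars

open Cfsg
open scoped ComplexConjugate CfsgLib.Char

variable {p : ℕ} {H : Type*} [Group H] [Fintype H] {A C : Subgroup H}

/-- The member attached to a linear character. -/
def Attached (hAC : A ≤ C) (θ ψ : IrrCharacter C) (l : A →* ℂˣ) : Prop :=
  ∀ v : A, (ψ : C → ℂ) ⟨(v : H), hAC v.2⟩ = (θ : C → ℂ) 1 * (l v : ℂ)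

/-- The structure of a covered block of the centralizer. -/
structure Covered (p : ℕ) (M : Ideal AlgInt) (b : Set (IrrCharacter H)) (hAC : A ≤ C)
    [C.Normal] [Fintype C] where
  c : Set (IrrCharacter C)
  θ : IrrCharacter C
  mem : θ ∈ c
  triv : Attached hAC θ θ 1
  deg : (charDegree (θ : C → ℂ)).factorization p = (A.relIndex C).factorization p
  val : ∀ ψ ∈ c, ∀ l : A →* ℂˣ, Attached hAC θ ψ l → ∀ g x : C, ∀ hx : (x : H) ∈ A,
    IsPPart p g x → (ψ : C → ℂ) g = (l ⟨(x : H), hx⟩ : ℂ) * (θ : C → ℂ) g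
  vanish : ∀ ψ ∈ c, ∀ g x : C, IsPPart p g x → (x : H) ∉ A → (ψ : C → ℂ) g = 0
  lin : ∀ ψ ∈ c, ∃ l, Attached hAC θ ψ l
  surj : ∀ l : A →* ℂˣ, ∃ ψ ∈ c, Attached hAC θ ψ l
  up : ∀ ψ ∈ c, ∀ χ : IrrCharacter H,
    classInner (fun n : C => (χ : H → ℂ) n) (ψ : C → ℂ) ≠ 0 → χ ∈ b
  down : ∀ χ ∈ b, ∃ ψ ∈ c, classInner (fun n : C => (χ : H → ℂ) n) (ψ : C → ℂ) ≠ 0

theorem isPPart_map {G G' : Type*} [Group G] [Group G'] (f : G ≃* G') {g x : G}
    (h : IsPPart p g x) : IsPPart p (f g) (f x) := by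
  obtain ⟨y, h1, h2, ⟨k, h3⟩, h4⟩ := h
  exact ⟨f y, by rw [← map_mul, h1], h2.map f, ⟨k, by rw [MulEquiv.orderOf_eq, h3]⟩,
    by rwa [MulEquiv.orderOf_eq]⟩

theorem normSq_unit {G : Type*} [Group G] [Finite G] (l : G →* ℂˣ) (v : G) :
    (l v : ℂ) * conj (l v : ℂ) = 1 := by
  have h : (l v : ℂ) ^ orderOf v = 1 := by
    rw [← Units.val_pow_eq_pow_val, ← map_pow, pow_orderOf_eq_one, map_one, Units.val_one]
  rw [Complex.mul_conj, Complex.normSq_eq_norm_sq,
    Complex.norm_eq_one_of_pow_eq_one h (orderOf_pos v).ne']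
  simp

theorem nat_eq_of_sq {a b : ℕ} (h : (a : ℂ) * a = (b : ℂ) * b) : a = b :=
  Nat.mul_self_inj.mp (by exact_mod_cast h)

open Classical in
theorem exists_covered [Fact p.Prime] {M : Ideal AlgInt} (hM : IsPModular p M)
    {b : Set (IrrCharacter H)} (hb : IsPBlock M b) (hA : A.Normal) (hD : IsDefectGroup p M b A)
    (hcomm : ∀ x ∈ A, ∀ y ∈ A, x * y = y * x) (hC : C = Subgroup.centralizer (A : Set H))
    [C.Normal] [Fintype C] (hAC : A ≤ C) : Nonempty (Covered p M b hAC) := by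
  have := isPrime_of_isPModular hM
  have hp : p.Prime := Fact.out
  have hAp : IsPGroup p A := IsDefectGroup.isPGroup hM hD
  obtain ⟨χ₀, hχ₀⟩ := IsPBlock.nonempty hb
  obtain ⟨ψ₀, hψ₀⟩ := Char.exists_constituent C (Char.isCharacter_of_isIrr χ₀.2)
    (Char.irr_degree_ne_zero χ₀.2)
  set c := blockOf M (ψ₀ : C → ℂ) with hcdef
  have hc : IsPBlock M c := isPBlock_blockOf ψ₀
  -- its defect group
  obtain ⟨Q₀, hQ₀⟩ := exists_isDefectGroup hM hc
  set Q := Q₀.map C.subtype with hQdef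
  have hQN : Q ≤ C := Subgroup.map_subtype_le Q₀
  have hQ' : IsDefectGroup p M c (Q.subgroupOf C) := by
    rwa [hQdef, Subgroup.subgroupOf, Subgroup.comap_map_eq_self_of_injective C.subtype_injective]
  obtain ⟨P', hP', hinf⟩ := exists_defectGroup_inf_eq hc hb hχ₀ (mem_blockOf_self ψ₀) hψ₀ hM hQN
    hQ' hD
  obtain ⟨x, hx⟩ := IsDefectGroup.exists_conj_eq hM hb hD hP'
  have hP'A : P' = A := by
    rw [hx]
    exact Subgroup.mem_normalizer_iff_map_conj_eq.mp
      (by rw [Subgroup.normalizer_eq_top]; exact Subgroup.mem_top x)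
  have hQA : Q = A := by rw [← hinf, hP'A, inf_eq_left.mpr hAC]
  rw [hQA] at hQ'
  set A' := A.subgroupOf C with hA'def
  have hcen : A' ≤ Subgroup.center C := fun z hz => Subgroup.mem_center_iff.mpr fun y => by
    have hy : (y : H) ∈ Subgroup.centralizer (A : Set H) := hC ▸ y.2
    exact Subtype.ext ((hy (z : H) hz).symm)
  have htop : A' ⊔ Subgroup.centralizer (A' : Set C) = ⊤ := by
    rw [Subgroup.centralizer_eq_top_iff_subset.mpr hcen, sup_top_eq]
  have hA'p : IsPGroup p A' := IsDefectGroup.isPGroup hM hQ'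
  obtain ⟨θ, hθ, hθtriv, -, hθdeg, hval, hvan, hcard⟩ :=
    central_defect_structure p M hM A' hA'p htop c hc hQ'
  have hθ1 : (θ : C → ℂ) 1 ≠ 0 := Char.irr_degree_ne_zero θ.2
  have htriv : Attached hAC θ θ 1 := fun v => by
    rw [MonoidHom.one_apply, Units.val_one, mul_one]
    exact hθtriv _ v.2
  have hmain : ∀ ψ ∈ c, ∀ g x : C, ∀ hx : (x : H) ∈ A, IsPPart p g x →
      (ψ : C → ℂ) g * (θ : C → ℂ) 1 = (ψ : C → ℂ) x * (θ : C → ℂ) g := by
    intro ψ hψ g x hxA hpp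
    have hs := pPart_mul_eq hpp
    have h1 := hval ψ hψ x hxA _ hs
    have h2 := hval θ hθ x hxA _ hs
    rw [mul_inv_cancel_left] at h1 h2
    rw [hθtriv x hxA, div_self hθ1, one_mul] at h2
    rw [h1, h2, mul_assoc, mul_comm _ ((θ : C → ℂ) 1), ← mul_assoc, div_mul_cancel₀ _ hθ1]
  -- the linear character of a member
  have hlam : ∀ ψ ∈ c, ∃ l, Attached hAC θ ψ l := by
    intro ψ hψ
    set ι : A → C := fun v => ⟨(v : H), hAC v.2⟩
    have hψ1 : (ψ : C → ℂ) 1 ≠ 0 := Char.irr_degree_ne_zero ψ.2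
    let f : A →* ℂ :=
      { toFun := fun v => (ψ : C → ℂ) (ι v) / (ψ : C → ℂ) 1
        map_one' := by
          rw [show ι 1 = 1 from rfl, div_self hψ1]
        map_mul' := fun v w => by
          have h := Char.central_mul ψ.2 (hcen (show ι w ∈ A' from w.2)) (ι v)
          rw [show ι (v * w) = ι v * ι w from rfl]
          field_simp
          exact h }
    have hl : ∀ v : A, (ψ : C → ℂ) (ι v) = (ψ : C → ℂ) 1 * (f.toHomUnits v : ℂ) := fun v => by
      show _ = _ * ((ψ : C → ℂ) (ι v) / (ψ : C → ℂ) 1)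
      rw [mul_div_cancel₀ _ hψ1]
    -- the degree is that of `θ`
    obtain ⟨a, -, ha⟩ := Char.exists_nat_degree_irr ψ.2
    obtain ⟨t, -, ht⟩ := Char.exists_nat_degree_irr θ.2
    have hg : ∀ g : C, (θ : C → ℂ) 1 * (θ : C → ℂ) 1 * ((ψ : C → ℂ) g * conj ((ψ : C → ℂ) g)) =
        (ψ : C → ℂ) 1 * (ψ : C → ℂ) 1 * ((θ : C → ℂ) g * conj ((θ : C → ℂ) g)) := fun g => by
      obtain ⟨y, hy, -⟩ := exists_isPPart hp g
      by_cases hyA : (y : H) ∈ A
      · have h := hmain ψ hψ g y hyA hy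
        rw [show y = ι ⟨(y : H), hyA⟩ from rfl, hl] at h
        have h' := congrArg conj h
        simp only [map_mul, ha, ht, map_natCast] at h h' ⊢
        calc _ = ((ψ : C → ℂ) g * t) * (conj ((ψ : C → ℂ) g) * t) := by ring
          _ = _ := by
            rw [h, h']
            have := normSq_unit f.toHomUnits ⟨(y : H), hyA⟩
            linear_combination (a * a * ((θ : C → ℂ) g * conj ((θ : C → ℂ) g)) : ℂ) * this
      · rw [hvan ψ hψ g y hy hyA, hvan θ hθ g y hy hyA]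
        ring
    have hsum := Finset.sum_congr (s₁ := (Finset.univ : Finset C)) rfl fun g _ => hg g
    rw [← Finset.mul_sum, ← Finset.mul_sum] at hsum
    have hn : ∀ φ : IrrCharacter C, ∑ g : C, (φ : C → ℂ) g * conj ((φ : C → ℂ) g) =
        (Nat.card C : ℂ) := fun φ => by
      have h := Char.classInner_irr_self φ.2
      rw [classInner, inv_mul_eq_one₀ (Nat.cast_ne_zero.mpr Nat.card_pos.ne')] at h
      exact h.symm
    rw [hn, hn] at hsum
    have hsum' := mul_right_cancel₀ (Nat.cast_ne_zero.mpr Nat.card_pos.ne') hsum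
    rw [ha, ht] at hsum'
    have e : (ψ : C → ℂ) 1 = (θ : C → ℂ) 1 := by rw [ha, ht, nat_eq_of_sq hsum']
    exact ⟨f.toHomUnits, fun v => by rw [← e]; exact hl v⟩
  choose lamOf hlamOf using hlam
  have hvalAtt : ∀ ψ ∈ c, ∀ l : A →* ℂˣ, Attached hAC θ ψ l → ∀ g x : C, ∀ hx : (x : H) ∈ A,
      IsPPart p g x → (ψ : C → ℂ) g = (l ⟨(x : H), hx⟩ : ℂ) * (θ : C → ℂ) g := by
    intro ψ hψ l hl g x hxA hpp
    have h := hmain ψ hψ g x hxA hpp
    rw [show (ψ : C → ℂ) x = _ from hl ⟨(x : H), hxA⟩] at h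
    refine mul_right_cancel₀ hθ1 (h.trans ?_)
    ring
  -- every linear character occurs
  have hsurj : ∀ l : A →* ℂˣ, ∃ ψ ∈ c, Attached hAC θ ψ l := by
    letI : CommGroup A :=
      { (inferInstance : Group A) with mul_comm := fun a b => Subtype.ext (hcomm _ a.2 _ b.2) }
    obtain ⟨e⟩ := CommGroup.monoidHom_mulEquiv_of_hasEnoughRootsOfUnity A ℂ
    haveI : Finite (A →* ℂˣ) := Finite.of_equiv _ e.symm.toEquiv
    let Φ : c → (A →* ℂˣ) := fun ψ => lamOf ψ.1 ψ.2
    have hinj : Function.Injective Φ := fun ψ ψ' h => by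
      refine Subtype.ext (Subtype.ext (funext fun g => ?_))
      obtain ⟨y, hy, -⟩ := exists_isPPart hp g
      by_cases hyA : (y : H) ∈ A
      · rw [hvalAtt _ ψ.2 _ (hlamOf ψ.1 ψ.2) g y hyA hy,
          hvalAtt _ ψ'.2 _ (hlamOf ψ'.1 ψ'.2) g y hyA hy]
        rw [show lamOf ψ.1 ψ.2 = lamOf ψ'.1 ψ'.2 from h]
      · rw [hvan _ ψ.2 g y hy hyA, hvan _ ψ'.2 g y hy hyA]
    have hc' : Nat.card (A →* ℂˣ) ≤ Nat.card c := by
      rw [Nat.card_congr e.toEquiv, hcard, ← Nat.card_congr (Subgroup.subgroupOfEquivOfLe hAC).toEquiv]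
      refine le_of_eq (Nat.card_congr (Equiv.ofBijective ConjClasses.mk ⟨fun a a' h => ?_,
        ConjClasses.mk_surjective⟩))
      obtain ⟨u, hu⟩ := isConj_iff.mp (ConjClasses.mk_eq_mk_iff_isConj.mp h)
      have hua : u * a = a * u := Subtype.ext (Subgroup.mem_center_iff.mp (hcen a.2) (u : C))
      rw [← hu, hua, mul_inv_cancel_right]
    intro l
    obtain ⟨ψ, rfl⟩ := (hinj.bijective_of_nat_card_le hc').2 l
    exact ⟨ψ.1, ψ.2, hlamOf ψ.1 ψ.2⟩
  haveI := hA
  have hcon₀ : IsInducedBlock M C c b :=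
    isInducedBlock_of_covering hM A hAp hC.ge hc hb hχ₀ (mem_blockOf_self ψ₀) hψ₀
  refine ⟨⟨c, θ, hθ, htriv, hθdeg, hvalAtt, fun ψ hψ g x h hxA => hvan ψ hψ g x h hxA,
    fun ψ hψ => ⟨_, hlamOf ψ hψ⟩, hsurj, fun ψ hψ χ hχ => ?_, fun χ hχ => ?_⟩⟩
  · have h := isInducedBlock_of_covering hM A hAp hC.ge hc (isPBlock_blockOf χ)
      (mem_blockOf_self χ) hψ hχ
    rw [← IsInducedBlock.unique h hcon₀]
    exact mem_blockOf_self χ
  · obtain ⟨η, hη⟩ := Char.exists_constituent C (Char.isCharacter_of_isIrr χ.2)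
      (Char.irr_degree_ne_zero χ.2)
    obtain ⟨g, hg⟩ := exists_conjI_mem_of_congr hc (mem_blockOf_self ψ₀)
      (fun v hv hl hsupp => omega_congr_of_covering hb hc hχ₀ (mem_blockOf_self ψ₀) hψ₀ hχ
        (mem_blockOf_self ψ₀) hv hl hsupp) hη
    refine ⟨_, hg, ?_⟩
    rw [coe_conjI, ← Char.conjBy_restrict C (irr_classFunction χ) g, Char.classInner_conjBy]
    exact hη

end CfsgLib.Blocks.ThreeChars
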