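import Mathlib.GroupTheory.SpecificGroups.Cyclic
import Mathlib.GroupTheory.Index

/-!
# Elements whose centralizer is cyclic up to coprime index
-/

set_option autoImplicit false

namespace CfsgLib.Blocks.ThreeChars

/-- The centralizer of `x` contains a cyclic subgroup through `x` of index prime to the order
of `x`. -/
def Good {E : Type*} [Group E] (x : E) : Prop :=
  ∃ R : Subgroup E, IsCyclic R ∧ x ∈ R ∧ R ≤ Subgroup.centralizer ({x} : Set E) ∧
    (R.relIndex (Subgroup.centralizer ({x} : Set E))).Coprime (orderOf x)

theorem good_of_isCyclic_centralizer {E : Type*} [Group E] {x : E}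
    (h : IsCyclic (Subgroup.centralizer ({x} : Set E))) : Good x :=
  ⟨Subgroup.centralizer ({x} : Set E), h, Subgroup.mem_centralizer_singleton_iff.mpr rfl, le_rfl,
    by rw [Subgroup.relIndex_self]; exact Nat.coprime_one_left _⟩

end CfsgLib.Blocks.ThreeChars
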