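import Cfsg.Agent.Lib.Blocks.ThreeChars.Good
import Cfsg.Agent.Lib.Char.ExtensionCoset
import Cfsg.Agent.Lib.Char.ExtendChar
import Mathlib.LinearAlgebra.Dimension.Constructions
import Mathlib.GroupTheory.QuotientGroup.Basic

/-!
# Good classes of the quotient and the characters over an invariant character

For an invariant irreducible character `θ` of a normal subgroup, each class of good elements of the
quotient carries a class function orthogonal to all characters not over `θ`, so there are at most as
many such classes as characters over `θ`.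
-/

set_option autoImplicit false
set_option linter.unusedSectionVars false
set_option linter.style.haveILetI false

namespace CfsgLib.Blocks.ThreeChars

open Cfsg
open scoped ComplexConjugate CfsgLib.Char

variable {T : Type*} [Group T] [Fintype T] (C : Subgroup T) [hC : C.Normal] [Fintype C]
  {θ : C → ℂ}

open Classical in
/-- The class function attached to a good element of the quotient. -/
theorem exists_good_function (hθ : IsIrrCharacter C θ) (hinv : ∀ g, Char.conjBy C θ g = θ)
    (x : T ⧸ C) (hx : Good x) :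
    ∃ F : T → ℂ, IsClassFunction T F ∧ (∀ g, F g ≠ 0 → IsConj x (QuotientGroup.mk' C g)) ∧
      F ≠ 0 ∧ ∀ r : IrrCharacter T, classInner (fun n : C => (r : T → ℂ) n) θ = 0 →
        classInner F (r : T → ℂ) = 0 := by
  obtain ⟨R, hRcyc, hxR, hRle, hcop⟩ := hx
  set π := QuotientGroup.mk' C with hπ
  have hπs : Function.Surjective π := QuotientGroup.mk'_surjective C
  have hπC : ∀ n ∈ C, π n = 1 := fun n hn => (QuotientGroup.eq_one_iff n).mpr hn
  -- an extension over the cyclic group
  set X := R.comap π with hX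
  have hCX : C ≤ X := fun n hn => by
    show π n ∈ R
    rw [hπC n hn]; exact one_mem R
  set CX := C.subgroupOf X with hCXdef
  haveI : CX.Normal := Subgroup.normal_subgroupOf
  let eX : CX ≃* C := Subgroup.subgroupOfEquivOfLe hCX
  haveI : Fintype CX := Fintype.ofFinite _
  let φX : X →* R := (π.comp X.subtype).codRestrict R fun u => u.2
  have hφker : φX.ker = CX := by
    ext u
    rw [MonoidHom.mem_ker, ← Subtype.coe_inj, Subgroup.mem_subgroupOf]
    exact (QuotientGroup.eq_one_iff (u : T))
  have hcycX : IsCyclic (X ⧸ CX) := by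
    haveI := hRcyc
    refine isCyclic_of_injective (QuotientGroup.lift CX φX hφker.ge) ?_
    rw [← MonoidHom.ker_eq_bot_iff, QuotientGroup.ker_lift, hφker, QuotientGroup.map_mk'_self]
  have hθX : IsIrrCharacter CX (fun n => θ (eX n)) := (Char.isIrrCharacter_comp_equiv eX).mpr hθ
  have hinvX : ∀ g : X, Char.conjBy CX (fun n => θ (eX n)) g = fun n => θ (eX n) := fun g => by
    funext n
    exact congrFun (hinv g) (eX n)
  obtain ⟨η₀, hη₀, hη₀ext⟩ := Char.extends_of_cyclic CX hθX hinvX hcycX
  -- restricted to the group generated by the element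
  set Y := (Subgroup.zpowers x).comap π with hY
  set K := (Subgroup.centralizer ({x} : Set (T ⧸ C))).comap π with hK
  have hYX : Y ≤ X := Subgroup.comap_mono (Subgroup.zpowers_le.mpr hxR)
  have hCY : C ≤ Y := fun n hn => by
    show π n ∈ Subgroup.zpowers x
    rw [hπC n hn]; exact one_mem _
  set CY := C.subgroupOf Y with hCYdef
  haveI : CY.Normal := Subgroup.normal_subgroupOf
  haveI : Fintype CY := Fintype.ofFinite _
  haveI : Fintype Y := Fintype.ofFinite _
  let eY : CY ≃* C := Subgroup.subgroupOfEquivOfLe hCY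
  set η : Y → ℂ := fun y => η₀ ⟨(y : T), hYX y.2⟩ with hη
  have hθY : IsIrrCharacter CY (fun n => θ (eY n)) := (Char.isIrrCharacter_comp_equiv eY).mpr hθ
  have hηext : ∀ n : CY, η n = θ (eY n) := fun n =>
    hη₀ext ⟨⟨((n : Y) : T), hYX (n : Y).2⟩, n.2⟩
  have hηirr : IsIrrCharacter Y η := Char.isIrr_of_restrict CY
    (Char.isCharacter_comp (Subgroup.inclusion hYX) (Char.isCharacter_of_isIrr hη₀))
    (by rw [show (fun n : CY => η n) = fun n => θ (eY n) from funext hηext]; exact hθY)
  have hη₀c := Char.isClassFunction_of_isCharacter (Char.isCharacter_of_isIrr hη₀)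
  -- a point of the coset where the extension does not vanish
  obtain ⟨z₀, hz₀, hz₀ne⟩ : ∃ z : Y, π (z : T) = x ∧ η z ≠ 0 := by
    obtain ⟨y, hy⟩ := hπs x
    have hyY : y ∈ Y := show π y ∈ Subgroup.zpowers x by rw [hy]; exact Subgroup.mem_zpowers x
    by_contra hno
    push Not at hno
    have h := congrFun (Char.avgN_mul_conj_extension_self CY hθY hηirr hηext) ⟨y, hyY⟩
    rw [Char.avgN, Finset.sum_eq_zero fun n _ => ?_, mul_zero] at h
    · exact zero_ne_one h
    · have e : η ((n : Y) * ⟨y, hyY⟩) = 0 := hno _ (by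
        rw [Subgroup.coe_mul, map_mul]; exact (congrArg (· * π y) (hπC _ n.2)).trans ((one_mul _).trans hy))
      rw [e, zero_mul]
  -- conjugation inside the centralizer
  have hKx : ∀ k ∈ K, π k * x = x * π k := fun k hk =>
    Subgroup.mem_centralizer_singleton_iff.mp hk
  have hπconj : ∀ k ∈ K, ∀ y ∈ Y, π (k * y * k⁻¹) = π y := fun k hk y hy => by
    obtain ⟨j, hj⟩ := Subgroup.mem_zpowers_iff.mp (show π y ∈ Subgroup.zpowers x from hy)
    rw [map_mul, map_mul, map_inv, ← hj, ((show Commute (π k) x from hKx k hk).zpow_right j).eq,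
      mul_inv_cancel_right]
  have hconjY : ∀ k ∈ K, ∀ y ∈ Y, k * y * k⁻¹ ∈ Y := fun k hk y hy => by
    show π (k * y * k⁻¹) ∈ Subgroup.zpowers x
    rw [hπconj k hk y hy]; exact hy
  let conjY : K → Y → Y := fun k y => ⟨(k : T) * y * (k : T)⁻¹, hconjY k k.2 y y.2⟩
  have hscal : ∀ k : K, ∀ y : Y, π (y : T) = x →
      η (conjY k y) * η z₀ = η (conjY k z₀) * η y ∧
        (η (conjY k z₀) / η z₀) ^ orderOf x = 1 := by
    intro k y hy
    let σ : Y ≃* Y :=
      { toFun := conjY k
        invFun := conjY k⁻¹
        left_inv := fun u => Subtype.ext (by simp [conjY, mul_assoc])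
        right_inv := fun u => Subtype.ext (by simp [conjY, mul_assoc])
        map_mul' := fun u v => Subtype.ext (by simp [conjY, mul_assoc]) }
    have hkirr : IsIrrCharacter Y (fun u => η (conjY k u)) :=
      (Char.isIrrCharacter_comp_equiv σ).mpr hηirr
    have hkext : ∀ n : CY, η (conjY k n) = θ (eY n) := fun n => by
      have h1 := hηext ⟨conjY k n, hC.conj_mem ((n : Y) : T) n.2 k⟩
      rw [h1]
      exact congrFun (hinv k) (eY n)
    obtain ⟨β, hβ, hβe⟩ := Char.extensions_differ CY hθY hηirr hkirr hηext hkext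
    have hb : ∀ u : Y, η (conjY k u) = (β u : ℂ) * η u := fun u => congrFun hβe u
    have hβy : β y = β z₀ := by
      have hn : y * z₀⁻¹ ∈ CY := by
        rw [Subgroup.mem_subgroupOf, ← QuotientGroup.eq_one_iff]
        show π ((y : T) * (z₀ : T)⁻¹) = 1
        rw [map_mul, map_inv, hy, hz₀, mul_inv_cancel]
      have := hβ ⟨_, hn⟩
      rwa [map_mul, map_inv, mul_inv_eq_one] at this
    refine ⟨by rw [hb, hb, hβy]; ring, ?_⟩
    rw [hb, mul_div_assoc, div_self hz₀ne, mul_one, ← Units.val_pow_eq_pow_val, ← map_pow]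
    have hn : z₀ ^ orderOf x ∈ CY := by
      rw [Subgroup.mem_subgroupOf, ← QuotientGroup.eq_one_iff]
      show π (((z₀ ^ orderOf x : Y) : T)) = 1
      rw [SubgroupClass.coe_pow, map_pow, hz₀, pow_orderOf_eq_one]
    rw [show β (z₀ ^ orderOf x) = 1 from hβ ⟨_, hn⟩, Units.val_one]
  let cm : K →* ℂ :=
    { toFun := fun k => η (conjY k z₀) / η z₀
      map_one' := by
        rw [show conjY 1 z₀ = z₀ from Subtype.ext (by simp [conjY]), div_self hz₀ne]
      map_mul' := fun k k' => by
        have h1 := (hscal k (conjY k' z₀) ((hπconj k' k'.2 z₀ z₀.2).trans hz₀)).1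
        rw [show conjY (k * k') z₀ = conjY k (conjY k' z₀) from
          Subtype.ext (by simp [conjY, mul_assoc])]
        field_simp
        linear_combination h1 }
  have hker : X.subgroupOf K ≤ cm.toHomUnits.ker := fun k hk => by
    rw [MonoidHom.mem_ker]
    refine Units.ext ?_
    show η (conjY k z₀) / η z₀ = 1
    have e : η (conjY k z₀) = η z₀ := hη₀c ⟨(z₀ : T), hYX z₀.2⟩ ⟨(k : T), hk⟩
    rw [e, div_self hz₀ne]
  have hfix : ∀ k : K, η (conjY k z₀) = η z₀ := fun k => by
    have h1 : orderOf (cm.toHomUnits k) ∣ orderOf x :=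
      orderOf_dvd_of_pow_eq_one (Units.ext (by
        rw [Units.val_pow_eq_pow_val, Units.val_one]; exact (hscal k z₀ hz₀).2))
    have h2 : orderOf (cm.toHomUnits k) ∣ R.relIndex (Subgroup.centralizer ({x} : Set (T ⧸ C))) := by
      have h3 : cm.toHomUnits.ker.index ∣ (X.subgroupOf K).index := Subgroup.index_dvd_of_le hker
      have h4 : (X.subgroupOf K).index = R.relIndex (Subgroup.centralizer ({x} : Set (T ⧸ C))) := by
        show X.relIndex K = _
        rw [hX, Subgroup.relIndex_comap, hK, Subgroup.map_comap_eq_self_of_surjective hπs]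
      rw [← h4]
      refine dvd_trans ?_ h3
      rw [Subgroup.index_ker]
      exact Subgroup.orderOf_dvd_natCard _ ⟨k, rfl⟩
    have h := Nat.dvd_gcd h2 h1
    rw [hcop.gcd_eq_one, Nat.dvd_one, orderOf_eq_one_iff] at h
    have h' : η (conjY k z₀) / η z₀ = 1 := congrArg Units.val h
    exact (div_eq_one_iff_eq hz₀ne).mp h'
  -- the class function
  let f : T → ℂ := fun g => if h : π g = x then η ⟨g, by
    show π g ∈ Subgroup.zpowers x
    rw [h]; exact Subgroup.mem_zpowers x⟩ else 0
  refine ⟨fun g => ∑ t : T, f (t * g * t⁻¹), fun g h => ?_, fun g hg => ?_, fun h0 => ?_,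
    fun r hr => ?_⟩
  · refine Fintype.sum_equiv (Equiv.mulRight h) _ _ fun t => ?_
    simp [Equiv.coe_mulRight, mul_assoc]
  · obtain ⟨t, -, ht⟩ := Finset.exists_ne_zero_of_sum_ne_zero hg
    have hte : π (t * g * t⁻¹) = x := by
      by_contra hne
      exact ht (dif_neg hne)
    refine (isConj_iff.mpr ⟨π t, ?_⟩).symm
    rw [← map_inv, ← map_mul, ← map_mul]
    exact hte
  · have h1 : (∑ t : T, f (t * (z₀ : T) * t⁻¹)) = 0 := congrFun h0 (z₀ : T)
    have h2 : ∀ t : T, f (t * (z₀ : T) * t⁻¹) = if t ∈ K then η z₀ else 0 := fun t => by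
      by_cases ht : t ∈ K
      · rw [if_pos ht]
        simp only [f]
        rw [dif_pos ((hπconj t ht z₀ z₀.2).trans hz₀)]
        exact hfix ⟨t, ht⟩
      · rw [if_neg ht]
        simp only [f]
        rw [dif_neg]
        intro hh
        rw [map_mul, map_mul, map_inv, hz₀, mul_inv_eq_iff_eq_mul] at hh
        exact ht (Subgroup.mem_centralizer_singleton_iff.mpr hh)
    rw [Finset.sum_congr rfl fun t _ => h2 t, Finset.sum_ite, Finset.sum_const_zero, add_zero,
      Finset.sum_const, nsmul_eq_mul, mul_eq_zero] at h1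
    refine h1.elim (fun e => ?_) hz₀ne
    rw [Nat.cast_eq_zero, Finset.card_eq_zero] at e
    exact absurd (Finset.mem_filter.mpr ⟨Finset.mem_univ (1 : T), one_mem K⟩)
      (by rw [e]; exact Finset.notMem_empty _)
  · have hrc := Char.isClassFunction_irr r
    have hsum : ∑ g : T, f g * conj ((r : T → ℂ) g) = 0 := by
      let φ : CY → T := fun n => ((n : Y) : T) * (z₀ : T)
      have hzero := congrFun (Char.avgN_mul_conj_extension_eq_zero CY hθY hηirr hηext
        (Char.isCharacter_comp Y.subtype (Char.isCharacter_of_isIrr r.2)) (by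
          rw [← hr]
          exact Char.classInner_comp_equiv eY (fun n : C => (r : T → ℂ) n) θ)) z₀
      rw [Char.avgN, Pi.zero_apply, mul_eq_zero] at hzero
      have h3 := congrArg conj (hzero.resolve_left
        (inv_ne_zero (Nat.cast_ne_zero.mpr Nat.card_pos.ne')))
      rw [map_zero, map_sum] at h3
      rw [← h3]
      symm
      refine Fintype.sum_of_injective φ
        (fun a b h => Subtype.ext (Subtype.ext (mul_right_cancel h))) _ _ (fun g hg => ?_)
        fun n => ?_
      · simp only [f]
        rw [dif_neg, zero_mul]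
        intro hh
        have hn : g * (z₀ : T)⁻¹ ∈ C := by
          rw [← QuotientGroup.eq_one_iff]
          show π (g * (z₀ : T)⁻¹) = 1
          rw [map_mul, map_inv, hh, hz₀, mul_inv_cancel]
        exact hg ⟨⟨⟨g * (z₀ : T)⁻¹, hCY hn⟩, hn⟩, inv_mul_cancel_right _ _⟩
      · simp only [f, φ]
        have hh : π (((n : Y) : T) * (z₀ : T)) = x := by
          rw [map_mul]; exact (congrArg (· * π (z₀ : T)) (hπC _ n.2)).trans ((one_mul _).trans hz₀)
        rw [dif_pos hh, map_mul, Complex.conj_conj, mul_comm]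
        rfl
    simp only [classInner, Finset.sum_mul]
    rw [Finset.sum_comm, Finset.sum_eq_zero fun t _ => ?_, mul_zero]
    refine (Fintype.sum_equiv (MulAut.conj t).toEquiv _ _ fun g => ?_).trans hsum
    rw [MulEquiv.toEquiv_eq_coe, EquivLike.coe_coe, MulAut.conj_apply, hrc g t]

open Classical in
/-- Pairwise non-conjugate good elements of the quotient are at most as many as the characters
over `θ`. -/
theorem card_good_le (hθ : IsIrrCharacter C θ) (hinv : ∀ g, Char.conjBy C θ g = θ)
    (s : Finset (T ⧸ C)) (hgood : ∀ x ∈ s, Good x)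
    (hconj : ∀ x ∈ s, ∀ y ∈ s, IsConj x y → x = y) :
    s.card ≤ Nat.card {r : IrrCharacter T // classInner (fun n : C => (r : T → ℂ) n) θ ≠ 0} := by
  choose F hFc hFs hFne hFo using fun x : s => exists_good_function C hθ hinv x.1 (hgood _ x.2)
  set v : {r : IrrCharacter T // classInner (fun n : C => (r : T → ℂ) n) θ ≠ 0} → (T → ℂ) :=
    fun r => (r.1 : T → ℂ)
  have hmem : ∀ x, F x ∈ Submodule.span ℂ (Set.range v) := fun x => by
    rw [Char.classFunction_expansion (hFc x)]
    refine Submodule.sum_mem _ fun r _ => ?_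
    by_cases hr : classInner (fun n : C => (r : T → ℂ) n) θ = 0
    · rw [hFo x r hr, zero_smul]; exact Submodule.zero_mem _
    · exact Submodule.smul_mem _ _ (Submodule.subset_span ⟨⟨r, hr⟩, rfl⟩)
  have hli : LinearIndependent ℂ F := by
    rw [Fintype.linearIndependent_iff]
    intro c hc x
    obtain ⟨g, hg⟩ := Function.ne_iff.mp (hFne x)
    have h := congrFun hc g
    simp only [Finset.sum_apply, Pi.smul_apply, smul_eq_mul, Pi.zero_apply] at h
    rw [Finset.sum_eq_single x (fun y _ hy => ?_) (fun h' => absurd (Finset.mem_univ x) h')] at h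
    · exact (mul_eq_zero.mp h).resolve_right hg
    · by_contra hne
      exact hy (Subtype.ext (hconj _ y.2 _ x.2
        ((hFs y g (right_ne_zero_of_mul hne)).trans (hFs x g hg).symm)))
  let F' : s → Submodule.span ℂ (Set.range v) := fun x => ⟨F x, hmem x⟩
  have hli' : LinearIndependent ℂ F' := LinearIndependent.of_comp (Submodule.subtype _) hli
  have h1 := hli'.fintype_card_le_finrank
  rw [Fintype.card_coe] at h1
  have h2 : Module.finrank ℂ (Submodule.span ℂ (Set.range v)) ≤ _ := finrank_range_le_card v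
  rw [Nat.card_eq_fintype_card]
  exact h1.trans h2

end CfsgLib.Blocks.ThreeChars
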