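import Cfsg.Agent.Lib.Blocks.ThreeChars.Good
import Cfsg.Agent.Lib.NumberTheory.Zsigmondy
import Cfsg.Agent.Lib.NumberTheory.PrimitivePart
import Mathlib.LinearAlgebra.Charpoly.Basic
import Mathlib.LinearAlgebra.Matrix.GeneralLinearGroup.Card
import Mathlib.RingTheory.LittleWedderburn
import Mathlib.RingTheory.IntegralDomain
import Mathlib.GroupTheory.GroupAction.Basic
import Mathlib.GroupTheory.Sylow
import Mathlib.FieldTheory.Finite.Basic
import Mathlib.NumberTheory.SumTwoSquares

/-!
# Transitive linear groups with at most one class of good elements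

A group of order prime to `p ≠ 2` acting faithfully and transitively on the nonzero vectors of an
elementary abelian `p`-group, whose nontrivial good elements form at most one class and which has no
such element or has order a sum of two squares, acts on a group of order `3`.
-/

set_option autoImplicit false
set_option linter.unusedSectionVars false
set_option linter.style.haveILetI false

namespace CfsgLib.Blocks.ThreeChars

open Polynomial

variable {p : ℕ} [Fact p.Prime] {E V : Type*} [Group E] [Finite E] [AddCommGroup V]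
  [Module (ZMod p) V] [Finite V] (ρ : E →* (V ≃ₗ[ZMod p] V))

theorem mul_apply' (a b : E) (v : V) : ρ (a * b) v = ρ a (ρ b v) := by rw [map_mul]; rfl

/-- The endomorphism of an element. -/
def endo : E →* Module.End (ZMod p) V where
  toFun g := (ρ g).toLinearMap
  map_one' := by ext v; simp
  map_mul' g h := by ext v; simp

@[simp] theorem endo_apply (g : E) (v : V) : endo ρ g v = ρ g v := rfl

theorem endo_injective (hρ : Function.Injective ρ) : Function.Injective (endo ρ) := fun _ _ h =>
  hρ (LinearEquiv.toLinearMap_injective h)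

theorem card_eq : Nat.card V = p ^ Module.finrank (ZMod p) V := by
  rw [Module.natCard_eq_pow_finrank (K := ZMod p), Nat.card_zmod]

/-- The fixed space of an element. -/
def fixedSpace (g : E) : Submodule (ZMod p) V := LinearMap.ker (endo ρ g - 1)

theorem mem_fixedSpace {g : E} {v : V} : v ∈ fixedSpace ρ g ↔ ρ g v = v := by
  simp [fixedSpace, sub_eq_zero]

/-- Orbits of an element of prime order on an invariant subspace. -/
theorem card_modEq {r : ℕ} [Fact r.Prime] {g : E} (hg : orderOf g = r) (W : Submodule (ZMod p) V)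
    (hW : ∀ w ∈ W, ρ g w ∈ W) :
    Nat.card W ≡ Nat.card ↥(W ⊓ fixedSpace ρ g) [MOD r] := by
  have hP : IsPGroup r (Subgroup.zpowers g) :=
    IsPGroup.of_card (n := 1) (by rw [Nat.card_zpowers, hg, pow_one])
  have hmem : ∀ u : E, u ∈ Subgroup.zpowers g → ∀ w ∈ W, ρ u w ∈ W := by
    intro u hu
    obtain ⟨k, rfl⟩ := (isOfFinOrder_of_finite g).mem_powers_iff_mem_zpowers.mpr hu
    induction k with
    | zero => intro w hw; simpa using hw
    | succ k ih =>
      intro w hw
      show ρ (g ^ (k + 1)) w ∈ W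
      rw [pow_succ', mul_apply' ρ]
      exact hW _ (ih ⟨k, by simp⟩ w hw)
  letI : MulAction (Subgroup.zpowers g) W :=
    { smul := fun u w => ⟨ρ (u : E) w.1, hmem _ u.2 _ w.2⟩
      one_smul := fun w => Subtype.ext (by show ρ ((1 : Subgroup.zpowers g) : E) w.1 = _; simp)
      mul_smul := fun u u' w => Subtype.ext (mul_apply' ρ (u : E) (u' : E) w.1) }
  refine (hP.card_modEq_card_fixedPoints W).trans (congrArg (· % r) (Nat.card_congr ?_))
  refine
    { toFun := fun w => ⟨w.1.1, w.1.2, (mem_fixedSpace ρ).mpr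
        (congrArg Subtype.val (w.2 ⟨g, Subgroup.mem_zpowers g⟩))⟩
      invFun := fun w => ⟨⟨w.1, w.2.1⟩, fun u => Subtype.ext ?_⟩
      left_inv := fun w => rfl
      right_inv := fun w => rfl }
  show ρ (u : E) w.1 = w.1
  obtain ⟨k, hk⟩ := (isOfFinOrder_of_finite g).mem_powers_iff_mem_zpowers.mpr u.2
  rw [← hk]
  induction k generalizing u with
  | zero => simp
  | succ k ih =>
    show ρ (g ^ (k + 1)) w.1 = w.1
    rw [pow_succ', mul_apply' ρ, ih ⟨g ^ k, Subgroup.pow_mem _ (Subgroup.mem_zpowers g) k⟩ rfl]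
    exact (mem_fixedSpace ρ).mp w.2.2

/-- An element leaving no proper subspace invariant has a cyclic centralizer, and its conjugates
among its own powers are at most as many as the dimension. -/
theorem of_irreducible [Nontrivial V] (hρ : Function.Injective ρ) (g : E)
    (hirr : ∀ W : Submodule (ZMod p) V, (∀ w ∈ W, ρ g w ∈ W) → W = ⊥ ∨ W = ⊤) :
    IsCyclic (Subgroup.centralizer ({g} : Set E)) ∧
      ∀ s : Finset E, (∀ x ∈ s, x ∈ Subgroup.zpowers g ∧ IsConj g x) →
        s.card ≤ Module.finrank (ZMod p) V := by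
  classical
  set K := Subalgebra.centralizer (ZMod p) ({endo ρ g} : Set (Module.End (ZMod p) V)) with hKdef
  haveI : Finite (Module.End (ZMod p) V) :=
    Finite.of_injective (fun f : Module.End (ZMod p) V => (f : V → V)) DFunLike.coe_injective
  haveI : Nontrivial (Module.End (ZMod p) V) := by
    obtain ⟨v, hv⟩ := exists_ne (0 : V)
    exact ⟨1, 0, fun h => hv (by simpa using LinearMap.congr_fun h v)⟩
  have hker : ∀ a : Module.End (ZMod p) V, a ∈ K → a ≠ 0 → Function.Injective a := by
    intro a ha ha0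
    refine LinearMap.ker_eq_bot.mp ((hirr (LinearMap.ker a) fun w hw => ?_).resolve_right fun h =>
      ha0 (LinearMap.ker_eq_top.mp h))
    rw [LinearMap.mem_ker] at hw ⊢
    have h := LinearMap.congr_fun ((Subalgebra.mem_centralizer_iff (R := ZMod p)).mp ha _ rfl) w
    simp only [Module.End.mul_apply, endo_apply, hw, map_zero] at h
    exact h.symm
  haveI : Nontrivial K := ⟨⟨0, 1, fun h => zero_ne_one (congrArg Subtype.val h)⟩⟩
  haveI : NoZeroDivisors K := ⟨fun {a b} hab => by
    by_contra hne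
    push Not at hne
    have ha : (a : Module.End (ZMod p) V) ≠ 0 := fun h => hne.1 (Subtype.ext h)
    refine hne.2 (Subtype.ext (LinearMap.ext fun v => hker _ a.2 ha ?_))
    have h := LinearMap.congr_fun (congrArg Subtype.val hab) v
    simpa using h⟩
  haveI : IsDomain K := NoZeroDivisors.to_isDomain K
  let hfield : Field K := (Finite.isDomain_to_isField K).toField
  letI : CommRing K := hfield.toCommRing
  haveI : IsDomain K := hfield.isDomain
  have hmemK : ∀ x ∈ Subgroup.centralizer ({g} : Set E), endo ρ x ∈ K := fun x hx =>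
    (Subalgebra.mem_centralizer_iff (R := ZMod p)).mpr fun f hf => by
      rw [Set.mem_singleton_iff.mp hf, ← map_mul, ← map_mul, Subgroup.mem_centralizer_singleton_iff.mp hx]
  let f : Subgroup.centralizer ({g} : Set E) →* K :=
    { toFun := fun x => ⟨endo ρ (x : E), hmemK _ x.2⟩
      map_one' := Subtype.ext (map_one (endo ρ))
      map_mul' := fun x y => Subtype.ext (map_mul (endo ρ) (x : E) (y : E)) }
  have hf : Function.Injective f := fun x y h =>
    Subtype.ext (endo_injective ρ hρ (congrArg Subtype.val h))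
  refine ⟨isCyclic_of_subgroup_isDomain f hf, fun s hs => ?_⟩
  set P := LinearMap.charpoly (endo ρ g) with hP
  have hPne : (P.map (algebraMap (ZMod p) K)) ≠ 0 :=
    ((LinearMap.charpoly_monic _).map _).ne_zero
  have hz : ∀ x ∈ Subgroup.zpowers g, x ∈ Subgroup.centralizer ({g} : Set E) := fun x hx => by
    obtain ⟨k, rfl⟩ := Subgroup.mem_zpowers_iff.mp hx
    exact Subgroup.mem_centralizer_singleton_iff.mpr ((Commute.refl g).zpow_left k).eq
  let F : E → K := fun x =>
    if h : x ∈ Subgroup.centralizer ({g} : Set E) then f ⟨x, h⟩ else 0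
  have hroot : ∀ x ∈ s, F x ∈ (P.map (algebraMap (ZMod p) K)).roots.toFinset := by
    intro x hx
    obtain ⟨hxz, hxc⟩ := hs x hx
    rw [Multiset.mem_toFinset, mem_roots hPne, IsRoot, eval_map, ← aeval_def]
    simp only [F, dif_pos (hz x hxz)]
    refine Subtype.ext ?_
    rw [← Subalgebra.coe_val, ← aeval_algHom_apply]
    show aeval (endo ρ x) P = 0
    obtain ⟨y, hy⟩ := isConj_iff.mp hxc
    rw [← hy, map_mul, map_mul]
    let c : Module.End (ZMod p) V →ₐ[ZMod p] Module.End (ZMod p) V :=
      { toFun := fun a => endo ρ y * a * endo ρ y⁻¹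
        map_one' := by rw [mul_one, ← map_mul, mul_inv_cancel, map_one]
        map_mul' := fun a b => by
          rw [show endo ρ y * a * endo ρ y⁻¹ * (endo ρ y * b * endo ρ y⁻¹) =
            endo ρ y * a * (endo ρ y⁻¹ * endo ρ y) * b * endo ρ y⁻¹ by noncomm_ring,
            ← map_mul, inv_mul_cancel, map_one]
          noncomm_ring
        map_zero' := by simp
        map_add' := fun a b => by rw [mul_add, add_mul]
        commutes' := fun a => by
          rw [← Algebra.commutes, mul_assoc, ← map_mul, mul_inv_cancel, map_one, mul_one] }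
    show aeval (c (endo ρ g)) P = 0
    rw [aeval_algHom_apply, hP, LinearMap.aeval_self_charpoly, map_zero]
  have hinj : Set.InjOn F s := fun x hx y hy h => by
    simp only [F, dif_pos (hz x (hs x hx).1), dif_pos (hz y (hs y hy).1)] at h
    exact congrArg Subtype.val (hf h)
  calc s.card = (s.image F).card := (Finset.card_image_of_injOn hinj).symm
    _ ≤ (P.map (algebraMap (ZMod p) K)).roots.toFinset.card :=
        Finset.card_le_card fun z hz' => by
          obtain ⟨x, hx, rfl⟩ := Finset.mem_image.mp hz'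
          exact hroot x hx
    _ ≤ _ := (Multiset.toFinset_card_le _).trans ((card_roots' _).trans (by
          rw [(LinearMap.charpoly_monic _).natDegree_map, LinearMap.charpoly_natDegree]))

/-- Transitivity makes the order a multiple of the number of nonzero vectors, and every orbit of
a Sylow `2`-subgroup has a length divisible by the `2`-part of that number. -/
theorem card_dvd (htrans : ∀ v w : V, v ≠ 0 → w ≠ 0 → ∃ g : E, ρ g v = w) [Nontrivial V] :
    Nat.card V - 1 ∣ Nat.card E ∧
      ∀ (S : Sylow 2 E) (W : Submodule (ZMod p) V), (∀ s ∈ S, ∀ w ∈ W, ρ s w ∈ W) →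
        2 ^ (Nat.card V - 1).factorization 2 ∣ Nat.card W - 1 := by
  classical
  let X := {v : V // v ≠ 0}
  letI : MulAction E X :=
    { smul := fun g x => ⟨ρ g x.1, (ρ g).map_ne_zero_iff.mpr x.2⟩
      one_smul := fun x => Subtype.ext (by show ρ 1 x.1 = x.1; simp)
      mul_smul := fun g h x => Subtype.ext (mul_apply' ρ g h x.1) }
  haveI : MulAction.IsPretransitive E X := ⟨fun x y => by
    obtain ⟨g, hg⟩ := htrans x.1 y.1 x.2 y.2
    exact ⟨g, Subtype.ext hg⟩⟩
  haveI := Fintype.ofFinite V
  have hX : Nat.card X = Nat.card V - 1 := by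
    rw [Nat.card_eq_fintype_card, Fintype.card_subtype_compl, Fintype.card_subtype_eq,
      Nat.card_eq_fintype_card]
  have hindex : ∀ x : X, (MulAction.stabilizer E x).index = Nat.card V - 1 := fun x => by
    rw [MulAction.index_stabilizer_of_transitive, hX]
  obtain ⟨v₀, hv₀⟩ := exists_ne (0 : V)
  have hdvd : Nat.card V - 1 ∣ Nat.card E :=
    hindex ⟨v₀, hv₀⟩ ▸ Subgroup.index_dvd_card _
  refine ⟨hdvd, fun S W hW => ?_⟩
  let Y := {x : X // x.1 ∈ W}
  letI : MulAction S Y :=
    { smul := fun s y => ⟨(s : E) • y.1, hW _ s.2 _ y.2⟩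
      one_smul := fun y => Subtype.ext (one_smul E y.1)
      mul_smul := fun s t y => Subtype.ext (mul_smul (s : E) (t : E) y.1) }
  have hY : Nat.card Y = Nat.card W - 1 := by
    haveI := Fintype.ofFinite W
    have : Nat.card {w : W // w ≠ 0} = Nat.card W - 1 := by
      rw [Nat.card_eq_fintype_card, Fintype.card_subtype_compl, Fintype.card_subtype_eq,
        Nat.card_eq_fintype_card]
    rw [← this]
    exact Nat.card_congr
      { toFun := fun y => ⟨⟨y.1.1, y.2⟩, fun h => y.1.2 (congrArg Subtype.val h)⟩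
        invFun := fun w => ⟨⟨w.1.1, fun h => w.2 (Subtype.ext h)⟩, w.1.2⟩
        left_inv := fun y => rfl
        right_inv := fun w => rfl }
  rw [← hY, Nat.card_congr (MulAction.selfEquivSigmaOrbits S Y), Nat.card_sigma]
  refine Finset.dvd_sum fun ω _ => ?_
  set y := (Quotient.out ω : Y)
  have hstab : Nat.card (MulAction.stabilizer S y) ∣
      2 ^ (Nat.card (MulAction.stabilizer E y.1)).factorization 2 := by
    obtain ⟨a, ha⟩ := IsPGroup.iff_card.mp (S.2.to_subgroup (MulAction.stabilizer S y))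
    rw [ha]
    refine Nat.pow_dvd_pow 2 ((Nat.prime_two.pow_dvd_iff_le_factorization Nat.card_pos.ne').mp ?_)
    rw [← ha]
    refine Subgroup.card_dvd_of_injective
      (⟨⟨fun s => ⟨((s : S) : E), congrArg Subtype.val s.2⟩, rfl⟩, fun _ _ => rfl⟩ :
        MulAction.stabilizer S y →* MulAction.stabilizer E y.1) ?_
    intro s t h
    have h' : ((s : S) : E) = ((t : S) : E) :=
      congrArg (fun w : MulAction.stabilizer E y.1 => (w : E)) h
    exact Subtype.ext (Subtype.ext h')
  have hS : Nat.card S = 2 ^ (Nat.card E).factorization 2 := S.card_eq_multiplicity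
  have hmul : Nat.card (MulAction.orbit S y) * Nat.card (MulAction.stabilizer S y) = Nat.card S := by
    rw [Nat.card_coe_set_eq, ← MulAction.index_stabilizer, mul_comm, Subgroup.card_mul_index]
  have hE : (Nat.card E).factorization 2 = (Nat.card (MulAction.stabilizer E y.1)).factorization 2 +
      (Nat.card V - 1).factorization 2 := by
    conv_lhs => rw [← (MulAction.stabilizer E y.1).card_mul_index, hindex]
    rw [Nat.factorization_mul Nat.card_pos.ne' ?_, Finsupp.add_apply]
    intro h0
    rw [h0] at hdvd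
    exact Nat.card_pos.ne' (Nat.eq_zero_of_zero_dvd hdvd)
  obtain ⟨c, hc⟩ := hstab
  refine ⟨c, Nat.eq_of_mul_eq_mul_right Nat.card_pos (hmul.trans ?_)⟩
  rw [hS, hE, pow_add, hc]
  ring

theorem two_factorization_lt {p : ℕ} (hp : 1 < p) (hodd : Odd p) (k : ℕ) (hk : 0 < k) :
    (p ^ k - 1).factorization 2 < (p ^ (2 * k) - 1).factorization 2 := by
  have h1 : 0 < p ^ k - 1 := Nat.sub_pos_of_lt (Nat.one_lt_pow hk.ne' hp)
  rw [show p ^ (2 * k) - 1 = (p ^ k + 1) * (p ^ k - 1) by
    rw [← Nat.sq_sub_sq, one_pow, ← pow_mul, mul_comm],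
    Nat.factorization_mul (by omega) h1.ne', Finsupp.add_apply]
  have : 0 < (p ^ k + 1).factorization 2 :=
    Nat.prime_two.factorization_pos_of_dvd (by omega) (Odd.add_one (hodd.pow)).two_dvd
  omega

/-- When the dimension is `2` or `4` the central involutions of a Sylow `2`-subgroup are `-1`. -/
theorem involution_eq_neg [Nontrivial V] (hρ : Function.Injective ρ) (hp2 : p ≠ 2)
    (htrans : ∀ v w : V, v ≠ 0 → w ≠ 0 → ∃ g : E, ρ g v = w)
    (hn : Module.finrank (ZMod p) V = 2 ∨ Module.finrank (ZMod p) V = 4) (S : Sylow 2 E) {z : E}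
    (hz : orderOf z = 2) (hzS : ∀ s ∈ S, s * z = z * s) (v : V) : ρ z v = -v := by
  set W := fixedSpace ρ z with hW
  have hzz : z * z = 1 := by rw [← pow_two, ← hz, pow_orderOf_eq_one]
  suffices hbot : W = ⊥ by
    have h : ρ z v + v ∈ W := (mem_fixedSpace ρ).mpr (by
      rw [map_add, ← mul_apply' ρ, hzz, map_one]
      exact add_comm _ _)
    rw [hbot, Submodule.mem_bot] at h
    exact eq_neg_of_add_eq_zero_left h
  by_contra hne
  have htop : W ≠ ⊤ := fun h => by
    have h1 : z = 1 := hρ (by
      rw [map_one]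
      exact LinearEquiv.ext fun w => (mem_fixedSpace ρ).mp (show w ∈ W by rw [h]; exact Submodule.mem_top))
    rw [h1, orderOf_one] at hz
    exact absurd hz (by norm_num)
  have hd := (card_dvd ρ htrans).2 S W fun s hs w hw => (mem_fixedSpace ρ).mpr (by
    rw [← mul_apply' ρ, ← hzS s hs, mul_apply' ρ, (mem_fixedSpace ρ).mp hw])
  rw [card_eq (p := p) (V := W), card_eq (p := p) (V := V)] at hd
  set w := Module.finrank (ZMod p) W
  have hp := (Fact.out : p.Prime)
  have hwlt : w < Module.finrank (ZMod p) V := Submodule.finrank_lt htop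
  have hw0 : 0 < w := Nat.pos_of_ne_zero fun h => hne (Submodule.finrank_eq_zero.mp h)
  obtain ⟨k, hk, hkn⟩ : ∃ k, 0 < k ∧ Module.finrank (ZMod p) V = 2 * k :=
    hn.elim (fun h => ⟨1, one_pos, h⟩) fun h => ⟨2, two_pos, h⟩
  have hgcd : Nat.gcd w (2 * k) ∣ k := by
    rcases hn with h | h
    · obtain rfl : k = 1 := by omega
      have e : w = 1 := by omega
      rw [e]
      decide
    · obtain rfl : k = 2 := by omega
      have : w = 1 ∨ w = 2 ∨ w = 3 := by omega
      rcases this with e | e | e <;> rw [e] <;> decide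
  have h2 : 2 ^ (p ^ (2 * k) - 1).factorization 2 ∣ p ^ k - 1 := by
    rw [hkn] at hd
    refine dvd_trans ?_ (Nat.pow_sub_one_dvd_pow_sub_one p hgcd)
    rw [← Nat.pow_sub_one_gcd_pow_sub_one]
    exact Nat.dvd_gcd hd (Nat.ordProj_dvd _ _)
  have := (Nat.prime_two.pow_dvd_iff_le_factorization
    (Nat.sub_pos_of_lt (Nat.one_lt_pow hk.ne' hp.one_lt)).ne').mp h2
  have := two_factorization_lt hp.one_lt (hp.odd_of_ne_two hp2) k hk
  omega

theorem exists_central_involution (S : Sylow 2 E) (h : 2 ∣ Nat.card E) :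
    ∃ z ∈ S, orderOf z = 2 ∧ ∀ s ∈ S, s * z = z * s := by
  have hS : (S : Subgroup E) ≠ ⊥ := fun hb => by
    have h1 := S.card_eq_multiplicity
    rw [hb, Subgroup.card_bot] at h1
    have := Nat.prime_two.factorization_pos_of_dvd Nat.card_pos.ne' h
    have := Nat.one_lt_two_pow (n := (Nat.card E).factorization 2) (by omega)
    omega
  haveI : Nontrivial S := (Subgroup.nontrivial_iff_ne_bot _).mpr hS
  haveI : Nontrivial (Subgroup.center S) := S.2.center_nontrivial
  obtain ⟨n, hn, hcard⟩ := (S.2.to_subgroup (Subgroup.center S)).nontrivial_iff_card.mp inferInstance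
  obtain ⟨z, hz⟩ := exists_prime_orderOf_dvd_card' (G := Subgroup.center S) 2
    (hcard ▸ dvd_pow_self 2 hn.ne')
  refine ⟨((z : S) : E), (z : S).2, ?_, fun s hs => ?_⟩
  · rw [Subgroup.orderOf_coe, Subgroup.orderOf_coe, hz]
  · exact congrArg Subtype.val (Subgroup.mem_center_iff.mp z.2 ⟨s, hs⟩)

theorem good_of_irreducible [Nontrivial V] (hρ : Function.Injective ρ) {g : E}
    (hirr : ∀ W : Submodule (ZMod p) V, (∀ w ∈ W, ρ g w ∈ W) → W = ⊥ ∨ W = ⊤) : Good g :=
  good_of_isCyclic_centralizer (of_irreducible ρ hρ g hirr).1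

theorem sq_dvd_of_three_mod_four {r n a b : ℕ} (hr : r.Prime) (h4 : r % 4 = 3)
    (hn : n = a ^ 2 + b ^ 2) (h : r ∣ n) : r ^ 2 ∣ n := by
  haveI := Fact.mk hr
  have key : ∀ x y : ℕ, r ∣ x ^ 2 + y ^ 2 → r ∣ y := by
    intro x y hxy
    by_contra hy
    have hy0 : (y : ZMod r) ≠ 0 := fun h => hy ((ZMod.natCast_eq_zero_iff y r).mp h)
    refine ZMod.mod_four_ne_three_of_sq_eq_neg_one (y := (x : ZMod r) / (y : ZMod r)) ?_ h4
    have h0 : (x : ZMod r) ^ 2 + (y : ZMod r) ^ 2 = 0 := by
      have := (ZMod.natCast_eq_zero_iff _ _).mpr hxy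
      push_cast at this
      exact this
    rw [div_pow, div_eq_iff (pow_ne_zero 2 hy0), neg_one_mul]
    exact eq_neg_of_add_eq_zero_left h0
  rw [hn]
  exact dvd_add (pow_dvd_pow_of_dvd (key b a (by rwa [hn, add_comm] at h)) 2)
    (pow_dvd_pow_of_dvd (key a b (by rwa [hn] at h)) 2)

/-- The plane over a field with `p + 1` a power of `2`. -/
theorem mersenne_case [Nontrivial V] (hρ : Function.Injective ρ) (hp2 : p ≠ 2)
    (hcop : ¬ p ∣ Nat.card E) (htrans : ∀ v w : V, v ≠ 0 → w ≠ 0 → ∃ g : E, ρ g v = w)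
    (hgood : ∀ x y : E, x ≠ 1 → y ≠ 1 → Good x → Good y → IsConj x y)
    (hn : Module.finrank (ZMod p) V = 2) (hm : ∃ m : ℕ, p + 1 = 2 ^ m) : False := by
  classical
  have hp := (Fact.out : p.Prime)
  have hp3 : 3 ≤ p := lt_of_le_of_ne hp.two_le hp2.symm
  obtain ⟨m, hm⟩ := hm
  have hm2 : 2 ≤ m := by
    by_contra h
    interval_cases m <;> simp at hm <;> omega
  have hcardV : Nat.card V = p ^ 2 := by rw [card_eq (p := p), hn]
  obtain ⟨hdvd, -⟩ := card_dvd ρ htrans
  obtain ⟨t, ht⟩ : ∃ t, (p + 1) = 4 * t := ⟨2 ^ (m - 2), by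
    rw [hm, show (4 : ℕ) = 2 ^ 2 by norm_num, ← pow_add]; congr 1; omega⟩
  have hsq : p ^ 2 - 1 = (p + 1) * (p - 1) := by rw [← Nat.sq_sub_sq, one_pow]
  have h8 : 8 ∣ Nat.card E := by
    refine dvd_trans ?_ hdvd
    rw [hcardV, hsq, ht, show p - 1 = 2 * (2 * t - 1) by omega]
    exact ⟨t * (2 * t - 1), by ring⟩
  obtain ⟨S⟩ : Nonempty (Sylow 2 E) := inferInstance
  have hScard : 8 ≤ Nat.card S := by
    rw [S.card_eq_multiplicity]
    calc 8 = 2 ^ 3 := by norm_num
      _ ≤ _ := Nat.pow_le_pow_right two_pos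
        ((Nat.prime_two.pow_dvd_iff_le_factorization Nat.card_pos.ne').mp (by norm_num; exact h8))
  obtain ⟨z, hzS, hz, hzc⟩ := exists_central_involution S (Dvd.dvd.trans (by norm_num) h8)
  have hneg := involution_eq_neg ρ hρ hp2 htrans (Or.inl hn) S hz hzc
  have hzuniq : ∀ u : E, orderOf u = 2 → (∀ v, ρ u v = -v) → u = z := fun u _ hu =>
    hρ (LinearEquiv.ext fun v => by rw [hu, hneg])
  have hzcent : ∀ u : E, u * z = z * u := fun u => hρ (LinearEquiv.ext fun v => by
    rw [mul_apply' ρ, mul_apply' ρ, hneg, hneg, map_neg])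
  -- a `2`-element of order above `2` fixes no line
  have hirr : ∀ x ∈ S, x * x ≠ 1 →
      ∀ W : Submodule (ZMod p) V, (∀ w ∈ W, ρ x w ∈ W) → W = ⊥ ∨ W = ⊤ := by
    intro x hxS hx2 W hW
    by_contra hcon
    push Not at hcon
    obtain ⟨k, hk⟩ := (IsPGroup.iff_orderOf.mp S.2) ⟨x, hxS⟩
    rw [← Subgroup.orderOf_coe] at hk
    replace hk : orderOf x = 2 ^ k := hk
    -- on a line the square acts trivially
    have hline : ∀ U : Submodule (ZMod p) V, Module.finrank (ZMod p) U = 1 →
        (∀ w ∈ U, ρ x w ∈ U) → ∀ u ∈ U, ρ (x * x) u = u := by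
      intro U hU hUinv u hu
      rcases eq_or_ne u 0 with rfl | hu0
      · simp
      obtain ⟨c, hc⟩ := (finrank_eq_one_iff_of_nonzero' (⟨u, hu⟩ : U)
        fun h => hu0 (congrArg Subtype.val h)).mp hU ⟨ρ x u, hUinv u hu⟩
      have hc' : ρ x u = c • u := (congrArg Subtype.val hc).symm
      have hpow : ∀ j : ℕ, ρ (x ^ j) u = c ^ j • u := fun j => by
        induction j with
        | zero => simp
        | succ j ih => rw [pow_succ', mul_apply' ρ, ih, map_smul, hc', smul_smul, ← pow_succ]
      have hc1 : c ^ (2 ^ k) = 1 := by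
        have h1 := hpow (2 ^ k)
        rw [show x ^ 2 ^ k = 1 by rw [← hk]; exact pow_orderOf_eq_one x, map_one] at h1
        exact smul_left_injective (ZMod p) hu0
          (show c ^ 2 ^ k • u = (1 : ZMod p) • u by rw [one_smul]; simpa using h1.symm)
      have hc0 : c ≠ 0 := fun h => by simp [h] at hc1
      have hord1 : orderOf c ∣ 2 ^ k := orderOf_dvd_of_pow_eq_one hc1
      have hord2 : orderOf c ∣ p - 1 := orderOf_dvd_of_pow_eq_one (ZMod.pow_card_sub_one_eq_one hc0)
      have hc2 : c ^ 2 = 1 := by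
        obtain ⟨j, -, hj⟩ := (Nat.dvd_prime_pow Nat.prime_two).mp hord1
        refine orderOf_dvd_iff_pow_eq_one.mp (hj ▸ ?_)
        rcases Nat.lt_or_ge j 2 with hj2 | hj2
        · exact (Nat.pow_dvd_pow 2 (Nat.lt_succ_iff.mp hj2)).trans (by norm_num)
        · exfalso
          have h4 : 4 ∣ p - 1 := (Nat.pow_dvd_pow 2 hj2).trans (hj ▸ hord2)
          omega
      rw [← pow_two, hpow, hc2, one_smul]
    have hW1 : Module.finrank (ZMod p) W = 1 := by
      have h1 := Submodule.finrank_lt hcon.2
      have h2 : 0 < Module.finrank (ZMod p) W :=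
        Nat.pos_of_ne_zero fun h => hcon.1 (Submodule.finrank_eq_zero.mp h)
      omega
    -- averaging gives an invariant complement
    set F := fixedSpace ρ (x * x) with hF
    have hWF : W ≤ F := fun u hu => (mem_fixedSpace ρ).mpr (hline W hW1 hW u hu)
    set o := orderOf (x * x) with ho
    set π : Module.End (ZMod p) V := ∑ i ∈ Finset.range o, endo ρ ((x * x) ^ i) with hπ
    have hπapp : ∀ v, π v = ∑ i ∈ Finset.range o, ρ ((x * x) ^ i) v := fun v => by
      rw [hπ, LinearMap.sum_apply]
      rfl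
    have hπF : ∀ v, π v ∈ F := fun v => (mem_fixedSpace ρ).mpr (by
      rw [hπapp, map_sum]
      have h1 : ∀ i, ρ (x * x) (ρ ((x * x) ^ i) v) = ρ ((x * x) ^ (i + 1)) v := fun i => by
        rw [← mul_apply' ρ, ← pow_succ']
      simp only [h1]
      have h2 := Finset.sum_range_succ' (fun i => ρ ((x * x) ^ i) v) o
      rw [Finset.sum_range_succ, ho, pow_orderOf_eq_one, pow_zero] at h2
      exact (add_right_cancel h2).symm)
    have hπfix : ∀ v ∈ F, π v = (o : ZMod p) • v := fun v hv => by
      have h1 : ∀ i : ℕ, ρ ((x * x) ^ i) v = v := fun i => by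
        induction i with
        | zero => simp
        | succ i ih => rw [pow_succ', mul_apply' ρ, ih, (mem_fixedSpace ρ).mp hv]
      rw [hπapp, Finset.sum_congr rfl fun i _ => h1 i, Finset.sum_const, Finset.card_range,
        Nat.cast_smul_eq_nsmul]
    have ho0 : (o : ZMod p) ≠ 0 := fun h => hcop
      (((ZMod.natCast_eq_zero_iff o p).mp h).trans (orderOf_dvd_natCard _))
    set U := LinearMap.ker π with hU
    have hUinv : ∀ v ∈ U, ρ x v ∈ U := fun v hv => by
      rw [hU, LinearMap.mem_ker, hπapp] at hv ⊢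
      have : ∀ i, ρ ((x * x) ^ i) (ρ x v) = ρ x (ρ ((x * x) ^ i) v) := fun i => by
        rw [← mul_apply' ρ, ← mul_apply' ρ,
          (((Commute.refl x).mul_left (Commute.refl x)).pow_left i).eq]
      simp only [this, ← map_sum, hv, map_zero]
    have hUF : ∀ v ∈ U, ρ (x * x) v = v → v = 0 := fun v hv hfix => by
      have h := hπfix v ((mem_fixedSpace ρ).mpr hfix)
      rw [LinearMap.mem_ker.mp hv] at h
      exact (smul_eq_zero.mp h.symm).resolve_left ho0
    have hUbot : U = ⊥ := by
      by_contra hUne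
      have hUtop : U ≠ ⊤ := fun h => hcon.1 ((Submodule.eq_bot_iff W).mpr fun u hu =>
        hUF u (h ▸ Submodule.mem_top) (hline W hW1 hW u hu))
      have hU1 : Module.finrank (ZMod p) U = 1 := by
        have h1 := Submodule.finrank_lt hUtop
        have h2 : 0 < Module.finrank (ZMod p) U :=
          Nat.pos_of_ne_zero fun h => hUne (Submodule.finrank_eq_zero.mp h)
        omega
      exact hUne ((Submodule.eq_bot_iff U).mpr fun u hu => hUF u hu (hline U hU1 hUinv u hu))
    refine hx2 (hρ (LinearEquiv.ext fun v => ?_))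
    have hsub : π ((o : ZMod p) • v - π v) = 0 := by
      rw [map_sub, map_smul, hπfix _ (hπF v), sub_self]
    have h := (Submodule.eq_bot_iff U).mp hUbot _ (LinearMap.mem_ker.mpr hsub)
    rw [sub_eq_zero] at h
    have : v = (o : ZMod p)⁻¹ • π v := by rw [← h, inv_smul_smul₀ ho0]
    rw [map_one]
    show ρ (x * x) v = v
    rw [this]
    exact (mem_fixedSpace ρ).mp (Submodule.smul_mem F _ (hπF v))
  -- every element of order at least `4` of `S` has order `4` and squares to `z`
  have hfour : ∀ x ∈ S, x * x ≠ 1 →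
      Subgroup.centralizer ({x} : Set E) = Subgroup.zpowers x ∧ x * x = z := by
    intro x hxS hx2
    obtain ⟨hcyc, -⟩ := of_irreducible ρ hρ x (hirr x hxS hx2)
    have hgx := good_of_isCyclic_centralizer hcyc
    have hx1 : x ≠ 1 := fun h => hx2 (by rw [h, one_mul])
    have hxle : Subgroup.zpowers x ≤ Subgroup.centralizer ({x} : Set E) :=
      Subgroup.zpowers_le.mpr (Subgroup.mem_centralizer_singleton_iff.mpr rfl)
    haveI := hcyc
    obtain ⟨w, hw⟩ := IsCyclic.exists_generator (α := Subgroup.centralizer ({x} : Set E))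
    have hwz : Subgroup.zpowers (w : E) = Subgroup.centralizer ({x} : Set E) := by
      refine le_antisymm (Subgroup.zpowers_le.mpr w.2) fun u hu => ?_
      obtain ⟨j, hj⟩ := Subgroup.mem_zpowers_iff.mp (hw ⟨u, hu⟩)
      exact Subgroup.mem_zpowers_iff.mpr ⟨j, by rw [← Subgroup.coe_zpow, hj]⟩
    have hxw : x ∈ Subgroup.zpowers (w : E) := by
      rw [hwz]
      exact Subgroup.mem_centralizer_singleton_iff.mpr rfl
    have hgw : Good (w : E) := by
      refine ⟨Subgroup.zpowers (w : E), inferInstance, Subgroup.mem_zpowers _,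
        Subgroup.zpowers_le.mpr (Subgroup.mem_centralizer_singleton_iff.mpr rfl), ?_⟩
      rw [Subgroup.relIndex_eq_one.mpr fun u hu => ?_]
      · exact Nat.coprime_one_left _
      · rw [hwz, Subgroup.mem_centralizer_singleton_iff]
        obtain ⟨j, hj⟩ := Subgroup.mem_zpowers_iff.mp hxw
        rw [← hj]
        exact ((show Commute u (w : E) from Subgroup.mem_centralizer_singleton_iff.mp hu).zpow_right j).eq
    have hw1 : (w : E) ≠ 1 := fun h => hx1 (by
      rwa [h, Subgroup.zpowers_one_eq_bot, Subgroup.mem_bot] at hxw)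
    obtain ⟨y, hy⟩ := isConj_iff.mp (hgood x _ hx1 hw1 hgx hgw)
    have hord : orderOf (w : E) = orderOf x := by rw [← hy]; exact (MulAut.conj y).orderOf_eq x
    have hC : Subgroup.centralizer ({x} : Set E) = Subgroup.zpowers x := by
      refine (Subgroup.eq_of_le_of_card_ge hxle (le_of_eq ?_)).symm
      rw [← hwz, Nat.card_zpowers, Nat.card_zpowers, hord]
    have h4 : (x * x) * (x * x) = 1 := by
      by_contra h
      have hcen : Subgroup.centralizer ({x * x} : Set E) = Subgroup.centralizer ({x} : Set E) := by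
        obtain ⟨hcyc2, -⟩ := of_irreducible ρ hρ (x * x) (hirr _ (mul_mem hxS hxS) h)
        refine le_antisymm (fun u hu => ?_) fun u hu => ?_
        · have hxm : x ∈ Subgroup.centralizer ({x * x} : Set E) :=
            Subgroup.mem_centralizer_singleton_iff.mpr (mul_assoc x x x).symm
          haveI := hcyc2
          exact Subgroup.mem_centralizer_singleton_iff.mpr
            (congrArg Subtype.val (mul_comm' (⟨u, hu⟩ : Subgroup.centralizer ({x * x} : Set E))
              ⟨x, hxm⟩))
        · rw [Subgroup.mem_centralizer_singleton_iff] at hu ⊢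
          exact ((show Commute u x from hu).mul_right hu).eq
      obtain ⟨y, hy⟩ := isConj_iff.mp (hgood x (x * x) hx1 hx2 hgx
        (good_of_isCyclic_centralizer (hcen ▸ hcyc)))
      obtain ⟨k, hk⟩ := (IsPGroup.iff_orderOf.mp S.2) ⟨x, hxS⟩
      rw [← Subgroup.orderOf_coe] at hk
      have e : orderOf (x ^ 2) = orderOf x := by
        rw [pow_two, ← hy]; exact (MulAut.conj y).orderOf_eq x
      rcases Nat.eq_zero_or_pos k with hk0 | hk0
      · exact hx1 (orderOf_eq_one_iff.mp (by rw [hk, hk0, pow_zero]))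
      rw [orderOf_pow, hk, Nat.gcd_eq_right (dvd_pow_self 2 hk0.ne')] at e
      exact absurd e (Nat.div_lt_self (pow_pos two_pos k) (by norm_num)).ne
    refine ⟨hC, ?_⟩
    have hzmem : z ∈ Subgroup.zpowers x :=
      hC ▸ Subgroup.mem_centralizer_singleton_iff.mpr (hzcent x).symm
    obtain ⟨j, rfl⟩ := (isOfFinOrder_of_finite x).mem_powers_iff_mem_zpowers.mpr hzmem
    have hx4 : x ^ 4 = 1 := by rw [show (4 : ℕ) = 2 * 2 from rfl, pow_mul, pow_two x, pow_two]; exact h4
    have hzj : x ^ j = x ^ (j % 4) := pow_eq_pow_mod j hx4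
    have hj4 : j % 4 < 4 := Nat.mod_lt _ (by norm_num)
    simp only [hzj] at hz ⊢
    interval_cases h : j % 4
    · simp at hz
    · rw [pow_one] at hz
      exact absurd (by rw [← pow_two, ← hz, pow_orderOf_eq_one]) hx2
    · exact (pow_two x).symm
    · have h3 : (x ^ 3) ^ 2 = 1 := by rw [← hz, pow_orderOf_eq_one]
      refine absurd ?_ hx2
      rw [← pow_mul, show 3 * 2 = 4 + 2 from rfl, pow_add, hx4, one_mul, pow_two] at h3
      exact h3
  -- there is such an element
  obtain ⟨x, hxS, hx2⟩ : ∃ x ∈ S, x * x ≠ 1 := by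
    by_contra hno
    push Not at hno
    have hall : ∀ u ∈ S, u = 1 ∨ u = z := by
      intro u hu
      rcases eq_or_ne u 1 with h | h
      · exact Or.inl h
      · have ho : orderOf u = 2 := orderOf_eq_prime (by rw [pow_two]; exact hno u hu) h
        refine Or.inr (hzuniq u ho (involution_eq_neg ρ hρ hp2 htrans (Or.inl hn) S ho fun s hs => ?_))
        have h1 := hno (s * u) (mul_mem hs hu)
        calc s * u = (s * u)⁻¹ := (inv_eq_of_mul_eq_one_right h1).symm
          _ = u⁻¹ * s⁻¹ := mul_inv_rev _ _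
          _ = u * s := by rw [inv_eq_of_mul_eq_one_right (hno s hs), inv_eq_of_mul_eq_one_right (hno u hu)]
    have : Nat.card S ≤ 2 := by
      calc Nat.card ((S : Subgroup E) : Set E) ≤ Nat.card ({1, z} : Set E) :=
            Nat.card_le_card_of_injective (fun u => ⟨u.1, hall u.1 u.2⟩)
              fun a b h => Subtype.ext (congrArg (fun w : ({1, z} : Set E) => (w : E)) h)
        _ ≤ 2 := by
            rw [Nat.card_coe_set_eq]
            exact (Set.ncard_insert_le _ _).trans (by simp)
    omega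
  have hsqz : ∀ u ∈ S, u * u = 1 ∨ u * u = z := fun u hu =>
    or_iff_not_imp_left.mpr fun h => (hfour u hu h).2
  have hzz : z * z = 1 := by rw [← pow_two, ← hz, pow_orderOf_eq_one]
  -- the class of `x` in `S` has at most two members
  have hclass : ∀ u ∈ S, u * x * u⁻¹ = x ∨ u * x * u⁻¹ = z * x := by
    intro u hu
    have key : ∀ a ∈ S, ∃ c : E, (c = 1 ∨ c = z) ∧ a * a = c := fun a ha =>
      (hsqz a ha).elim (fun h => ⟨1, Or.inl rfl, h⟩) fun h => ⟨z, Or.inr rfl, h⟩
    obtain ⟨c1, hc1, e1⟩ := key u hu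
    obtain ⟨c2, hc2, e2⟩ := key (u⁻¹ * x) (mul_mem (inv_mem hu) hxS)
    have hzinv : z⁻¹ = z := inv_eq_of_mul_eq_one_right hzz
    have hzz' : ∀ a : E, z * (z * a) = a := fun a => by rw [← mul_assoc, hzz, one_mul]
    have hform : u * x * u⁻¹ = u * u * ((u⁻¹ * x) * (u⁻¹ * x)) * (x * x)⁻¹ * x := by group
    rw [hform, (hfour x hxS hx2).2, e1, e2, hzinv]
    rcases hc1 with rfl | rfl <;> rcases hc2 with rfl | rfl <;> simp [hzz, hzz', mul_assoc]
  have hS8 : Nat.card S ≤ 8 := by
    haveI := Fintype.ofFinite S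
    let f : S → Bool := fun u => decide ((u : E) * x * (u : E)⁻¹ = x)
    have hfib : ∀ a b : S, f a = f b → (a : E)⁻¹ * (b : E) ∈ Subgroup.zpowers x := fun a b h => by
      have hab : (a : E) * x * (a : E)⁻¹ = (b : E) * x * (b : E)⁻¹ := by
        simp only [f, decide_eq_decide] at h
        rcases hclass a a.2 with ha | ha <;> rcases hclass b b.2 with hb | hb
        · rw [ha, hb]
        · rw [ha, (h.mp ha)]
        · rw [hb, (h.mpr hb)]
        · rw [ha, hb]
      rw [← (hfour x hxS hx2).1, Subgroup.mem_centralizer_singleton_iff]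
      calc (a : E)⁻¹ * b * x = (a : E)⁻¹ * ((b : E) * x * (b : E)⁻¹) * b := by group
        _ = x * ((a : E)⁻¹ * b) := by rw [← hab]; group
    have h4x : Nat.card (Subgroup.zpowers x) ≤ 4 := by
      rw [Nat.card_zpowers]
      refine Nat.le_of_dvd (by norm_num) (orderOf_dvd_of_pow_eq_one ?_)
      rw [show (4 : ℕ) = 2 * 2 from rfl, pow_mul, pow_two x, (hfour x hxS hx2).2, pow_two, hzz]
    have hb : ∀ b : Bool, Nat.card {a : S // f a = b} ≤ 4 := fun b => by
      rcases isEmpty_or_nonempty {a : S // f a = b} with h | ⟨⟨a₀⟩⟩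
      · simp
      · refine le_trans (Nat.card_le_card_of_injective
          (fun a => (⟨(a₀.1 : E)⁻¹ * (a.1 : E), hfib _ _ (a₀.2.trans a.2.symm)⟩ :
            Subgroup.zpowers x)) fun a b h => ?_) h4x
        exact Subtype.ext (Subtype.ext (mul_left_cancel (congrArg Subtype.val h)))
    have e := Nat.card_congr (Equiv.sigmaFiberEquiv f)
    rw [Nat.card_sigma, Fintype.sum_bool] at e
    refine le_of_eq_of_le e.symm ?_
    have := hb true
    have := hb false
    omega
  -- so `p = 3` and `E` is regular of order eight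
  have hval : (Nat.card E).factorization 2 = 3 := by
    have h1 : 2 ^ (Nat.card E).factorization 2 = 2 ^ 3 := by
      rw [← S.card_eq_multiplicity]
      have h2 : Nat.card S = Nat.card (S : Subgroup E) := rfl
      omega
    exact Nat.pow_right_injective le_rfl h1
  have hpe : p = 3 := by
    by_contra hne
    have hm3 : 3 ≤ m := by
      by_contra h
      obtain rfl : m = 2 := by omega
      norm_num at hm
      omega
    have : 16 ∣ Nat.card E := by
      refine dvd_trans ?_ hdvd
      obtain ⟨j, hj⟩ : 8 ∣ p + 1 := hm ▸ (by simpa using Nat.pow_dvd_pow 2 hm3)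
      rw [hcardV, hsq, hj, show p - 1 = 2 * (4 * j - 1) by omega]
      exact ⟨j * (4 * j - 1), by ring⟩
    have := (Nat.prime_two.pow_dvd_iff_le_factorization (k := 4) Nat.card_pos.ne').mp
      (by norm_num; exact this)
    omega
  subst hpe
  have hEcard : Nat.card E = 8 := by
    haveI := Fintype.ofFinite E
    let b := Module.finBasisOfFinrankEq (ZMod 3) V hn
    let φ : E →* GL (Fin 2) (ZMod 3) :=
      (Units.map (LinearMap.toMatrixAlgEquiv b).toMonoidHom).comp (endo ρ).toHomUnits
    have hφ : Function.Injective φ := fun a c h => endo_injective ρ hρ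
      ((LinearMap.toMatrixAlgEquiv b).injective (congrArg Units.val h))
    have h48 : Nat.card E ∣ 48 := by
      refine (Subgroup.card_dvd_of_injective φ hφ).trans (dvd_of_eq ?_)
      rw [Matrix.card_GL_field]
      simp [Fin.prod_univ_two]
    have : Nat.card E ≤ 48 := Nat.le_of_dvd (by norm_num) h48
    obtain ⟨c, hc⟩ := h8
    have hc6 : c ∣ 6 := Nat.dvd_of_mul_dvd_mul_left (by norm_num : 0 < 8) (hc ▸ h48)
    have hc3 : ¬ 3 ∣ c := fun h => hcop (hc ▸ h.mul_left 8)
    have hc2 : c ≠ 2 := fun h => by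
      rw [hc, h, show 8 * 2 = 2 ^ 4 by norm_num, Nat.prime_two.factorization_pow] at hval
      simp at hval
    have := Nat.le_of_dvd (by norm_num) hc6
    interval_cases c <;> omega
  have htop : (S : Subgroup E) = ⊤ := Subgroup.eq_top_of_card_eq _ (by
    rw [hEcard, show Nat.card (S : Subgroup E) = Nat.card S from rfl, S.card_eq_multiplicity, hval]
    rfl)
  have hcases : ∀ u : E, u = 1 ∨ u = z ∨ u = x ∨ u = z * x := by
    intro u
    have huS : u ∈ S := show u ∈ (S : Subgroup E) by rw [htop]; exact Subgroup.mem_top u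
    by_cases h2 : u * u = 1
    · rcases eq_or_ne u 1 with h | h
      · exact Or.inl h
      refine Or.inr (Or.inl (hρ (LinearEquiv.ext fun v => ?_)))
      -- regularity
      have hreg : ∀ w : V, ρ u w = w → w = 0 := by
        intro w hw
        by_contra hw0
        let X := {v : V // v ≠ 0}
        letI : MulAction E X :=
          { smul := fun g x => ⟨ρ g x.1, (ρ g).map_ne_zero_iff.mpr x.2⟩
            one_smul := fun x => Subtype.ext (by show ρ 1 x.1 = x.1; simp)
            mul_smul := fun g h x => Subtype.ext (mul_apply' ρ g h x.1) }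
        haveI : MulAction.IsPretransitive E X := ⟨fun x y => by
          obtain ⟨g, hg⟩ := htrans x.1 y.1 x.2 y.2
          exact ⟨g, Subtype.ext hg⟩⟩
        have hX : Nat.card X = 8 := by
          haveI := Fintype.ofFinite V
          rw [Nat.card_eq_fintype_card, Fintype.card_subtype_compl, Fintype.card_subtype_eq,
            ← Nat.card_eq_fintype_card, hcardV]
          norm_num
        have hst := (MulAction.stabilizer E (⟨w, hw0⟩ : X)).card_mul_index
        rw [MulAction.index_stabilizer_of_transitive, hX, hEcard] at hst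
        have h1 : MulAction.stabilizer E (⟨w, hw0⟩ : X) = ⊥ :=
          Subgroup.card_eq_one.mp (by omega)
        exact h ((Subgroup.mem_bot).mp (h1 ▸ (Subtype.ext hw : u • (⟨w, hw0⟩ : X) = ⟨w, hw0⟩)))
      rw [hneg]
      refine eq_neg_of_add_eq_zero_left (hreg _ ?_)
      rw [map_add, ← mul_apply' ρ, h2, map_one]
      exact add_comm _ _
    · obtain ⟨y, hy⟩ := isConj_iff.mp (hgood x u (fun h => hx2 (by rw [h, one_mul]))
        (fun h => h2 (by rw [h, one_mul])) (good_of_irreducible ρ hρ (hirr x hxS hx2))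
        (good_of_irreducible ρ hρ (hirr u huS h2)))
      rcases hclass y (show y ∈ (S : Subgroup E) by rw [htop]; exact Subgroup.mem_top y) with e | e
      · exact Or.inr (Or.inr (Or.inl (hy ▸ e)))
      · exact Or.inr (Or.inr (Or.inr (hy ▸ e)))
  have hfin : Nat.card E ≤ 4 := by
    calc Nat.card E ≤ Nat.card ({1, z, x, z * x} : Set E) :=
          Nat.card_le_card_of_injective (fun u => ⟨u, hcases u⟩)
            fun a b h => congrArg (fun w : ({1, z, x, z * x} : Set E) => (w : E)) h
      _ ≤ 4 := by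
          rw [Nat.card_coe_set_eq]
          refine (Set.ncard_insert_le _ _).trans (Nat.succ_le_succ ?_)
          refine (Set.ncard_insert_le _ _).trans (Nat.succ_le_succ ?_)
          refine (Set.ncard_insert_le _ _).trans (Nat.succ_le_succ ?_)
          simp
  omega

/-- **Transitive linear groups with at most one good class.** -/
theorem linear_main [Nontrivial V] (hρ : Function.Injective ρ) (hp2 : p ≠ 2)
    (hcop : ¬ p ∣ Nat.card E) (htrans : ∀ v w : V, v ≠ 0 → w ≠ 0 → ∃ g : E, ρ g v = w)
    (hgood : ∀ x y : E, x ≠ 1 → y ≠ 1 → Good x → Good y → IsConj x y)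
    (h2 : (∀ x : E, Good x → x = 1) ∨ ∃ a b : ℕ, Nat.card E = a ^ 2 + b ^ 2) :
    Nat.card V = 3 := by
  classical
  have hp := (Fact.out : p.Prime)
  have hp3 : 3 ≤ p := lt_of_le_of_ne hp.two_le hp2.symm
  set n := Module.finrank (ZMod p) V with hn
  have hn0 : 0 < n := Module.finrank_pos
  have hcardV := card_eq (p := p) (V := V)
  rw [← hn] at hcardV
  obtain ⟨hdvd, -⟩ := card_dvd ρ htrans
  rw [hcardV] at hdvd
  rcases Nat.lt_or_ge 1 n with hn1 | hn1
  swap
  · -- lines
    have hn1 : n = 1 := by omega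
    obtain ⟨v₀, hv₀⟩ := exists_ne (0 : V)
    have hsc : ∀ g : E, ∀ w : V, ∀ c : ZMod p, ρ g v₀ = c • v₀ → ρ g w = c • w := by
      intro g w c hc
      obtain ⟨d, rfl⟩ := (finrank_eq_one_iff_of_nonzero' v₀ hv₀).mp (hn.symm.trans hn1) w
      rw [map_smul, hc, smul_comm]
    choose c hc using fun g : E =>
      (finrank_eq_one_iff_of_nonzero' v₀ hv₀).mp (hn.symm.trans hn1) (ρ g v₀)
    have hcomm : ∀ a b : E, a * b = b * a := fun a b => hρ (LinearEquiv.ext fun w => by
      rw [mul_apply' ρ, mul_apply' ρ, hsc b w _ (hc b).symm, map_smul,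
        hsc a w _ (hc a).symm, hsc b _ _ (hc b).symm, smul_comm])
    have hcyc : ∀ x : E, Good x := fun x => by
      refine good_of_isCyclic_centralizer (of_irreducible ρ hρ x fun W _ => ?_).1
      rcases Nat.eq_zero_or_pos (Module.finrank (ZMod p) W) with h | h
      · exact Or.inl (Submodule.finrank_eq_zero.mp h)
      · refine Or.inr (Submodule.eq_top_of_finrank_eq (le_antisymm (Submodule.finrank_le W) ?_))
        omega
    have h2E : Nat.card E ≤ 2 := by
      by_cases h1 : ∃ x : E, x ≠ 1
      · obtain ⟨x, hx⟩ := h1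
        have hall : ∀ u : E, u = 1 ∨ u = x := fun u => by
          rcases eq_or_ne u 1 with h | h
          · exact Or.inl h
          · obtain ⟨y, hy⟩ := isConj_iff.mp (hgood x u hx h (hcyc x) (hcyc u))
            rw [hcomm y x, mul_inv_cancel_right] at hy
            exact Or.inr hy.symm
        calc Nat.card E ≤ Nat.card ({1, x} : Set E) :=
              Nat.card_le_card_of_injective (fun u => ⟨u, hall u⟩)
                fun a b h => congrArg (fun w : ({1, x} : Set E) => (w : E)) h
          _ ≤ 2 := by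
              rw [Nat.card_coe_set_eq]
              exact (Set.ncard_insert_le _ _).trans (by simp)
      · push Not at h1
        haveI : Subsingleton E := ⟨fun a b => (h1 a).trans (h1 b).symm⟩
        rw [Nat.card_eq_one_iff_unique.mpr ⟨inferInstance, inferInstance⟩]
        omega
    have hle := Nat.le_of_dvd Nat.card_pos hdvd
    rw [hcardV, hn1, pow_one] at *
    omega
  exfalso
  by_cases hmer : n = 2 ∧ ∃ m : ℕ, p + 1 = 2 ^ m
  · exact mersenne_case ρ hρ hp2 hcop htrans hgood (hn ▸ hmer.1) hmer.2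
  obtain ⟨r, hr, hrd, hrprim⟩ := CfsgLib.NumberTheory.exists_primitive_prime hp.one_lt hn1
    (fun h => hp2 h.1) hmer
  haveI := Fact.mk hr
  haveI := Fintype.ofFinite E
  obtain ⟨g, hg⟩ := exists_prime_orderOf_dvd_card' (G := E) r (hrd.trans hdvd)
  have hg1 : g ≠ 1 := fun h => hr.one_lt.ne' (by rw [← hg, h, orderOf_one])
  have hrp : r ≠ p := fun h => hcop (h ▸ hrd.trans hdvd)
  -- `g` fixes no proper subspace
  have hfix : fixedSpace ρ g = ⊥ := by
    by_contra hne
    have hlt : Module.finrank (ZMod p) (fixedSpace ρ g) < n := Submodule.finrank_lt fun h => hg1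
      (hρ (by rw [map_one]; exact LinearEquiv.ext fun w => (mem_fixedSpace ρ).mp (h ▸ Submodule.mem_top)))
    have hpos : 0 < Module.finrank (ZMod p) (fixedSpace ρ g) :=
      Nat.pos_of_ne_zero fun h => hne (Submodule.finrank_eq_zero.mp h)
    have h := card_modEq ρ hg (⊤ : Submodule (ZMod p) V) fun _ _ => Submodule.mem_top
    rw [top_inf_eq, card_eq (p := p) (V := (⊤ : Submodule (ZMod p) V)), finrank_top, ← hn,
      card_eq (p := p) (V := fixedSpace ρ g)] at h
    set f := Module.finrank (ZMod p) (fixedSpace ρ g)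
    have hdiv : r ∣ p ^ n - p ^ f :=
      (Nat.modEq_iff_dvd' (Nat.pow_le_pow_right hp.pos hlt.le)).mp h.symm
    rw [show p ^ n - p ^ f = p ^ f * (p ^ (n - f) - 1) by
      rw [Nat.mul_sub, mul_one, ← pow_add, Nat.add_sub_cancel' hlt.le]] at hdiv
    rcases hr.dvd_mul.mp hdiv with h' | h'
    · exact hrp ((Nat.prime_dvd_prime_iff_eq hr hp).mp (hr.dvd_of_dvd_pow h'))
    · exact hrprim (n - f) (by omega) (by omega) h'
  have hirr : ∀ W : Submodule (ZMod p) V, (∀ w ∈ W, ρ g w ∈ W) → W = ⊥ ∨ W = ⊤ := by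
    intro W hW
    by_contra hcon
    push Not at hcon
    have h := card_modEq ρ hg W hW
    rw [hfix, inf_bot_eq, card_eq (p := p) (V := (⊥ : Submodule (ZMod p) V)), finrank_bot, pow_zero,
      card_eq (p := p) (V := W)] at h
    exact hrprim _ (Nat.pos_of_ne_zero fun h' => hcon.1 (Submodule.finrank_eq_zero.mp h'))
      (Submodule.finrank_lt hcon.2)
      ((Nat.modEq_iff_dvd' (Nat.one_le_pow _ _ hp.pos)).mp h.symm)
  obtain ⟨hcyc, hroots⟩ := of_irreducible ρ hρ g hirr
  have hgg := good_of_isCyclic_centralizer hcyc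
  rcases h2 with hnone | ⟨a, b, hab⟩
  · exact hg1 (hnone g hgg)
  set C := Subgroup.centralizer ({g} : Set E) with hC
  have hgC : g ∈ C := Subgroup.mem_centralizer_singleton_iff.mpr rfl
  have hCeq : C = Subgroup.zpowers g := by
    haveI := hcyc
    obtain ⟨w, hw⟩ := IsCyclic.exists_generator (α := C)
    have hwz : Subgroup.zpowers (w : E) = C := by
      refine le_antisymm (Subgroup.zpowers_le.mpr w.2) fun u hu => ?_
      obtain ⟨j, hj⟩ := Subgroup.mem_zpowers_iff.mp (hw ⟨u, hu⟩)
      exact Subgroup.mem_zpowers_iff.mpr ⟨j, by rw [← Subgroup.coe_zpow, hj]⟩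
    have hgw : Good (w : E) := by
      refine ⟨Subgroup.zpowers (w : E), inferInstance, Subgroup.mem_zpowers _,
        Subgroup.zpowers_le.mpr (Subgroup.mem_centralizer_singleton_iff.mpr rfl), ?_⟩
      rw [Subgroup.relIndex_eq_one.mpr fun u hu => ?_]
      · exact Nat.coprime_one_left _
      · rw [hwz, hC, Subgroup.mem_centralizer_singleton_iff]
        obtain ⟨j, hj⟩ := Subgroup.mem_zpowers_iff.mp (show g ∈ Subgroup.zpowers (w : E) by rw [hwz]; exact hgC)
        rw [← hj]
        exact ((show Commute u (w : E) from Subgroup.mem_centralizer_singleton_iff.mp hu).zpow_right j).eq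
    have hw1 : (w : E) ≠ 1 := fun h => hg1 (by
      have h' : g ∈ Subgroup.zpowers (w : E) := by rw [hwz]; exact hgC
      rwa [h, Subgroup.zpowers_one_eq_bot, Subgroup.mem_bot] at h')
    obtain ⟨y, hy⟩ := isConj_iff.mp (hgood g _ hg1 hw1 hgg hgw)
    refine (Subgroup.eq_of_le_of_card_ge (Subgroup.zpowers_le.mpr hgC) (le_of_eq ?_)).symm
    rw [← hwz, Nat.card_zpowers, Nat.card_zpowers, ← hy]
    exact (MulAut.conj y).orderOf_eq g
  -- all powers are conjugate, so `r ≤ n + 1`
  have hrn : r - 1 ≤ n := by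
    have hs := hroots ((Finset.univ.filter fun u => u ∈ Subgroup.zpowers g).erase 1) fun x hx => by
      obtain ⟨hx1, hx2⟩ := Finset.mem_erase.mp hx
      have hxz := (Finset.mem_filter.mp hx2).2
      refine ⟨hxz, hgood g x hg1 hx1 hgg (good_of_isCyclic_centralizer ?_)⟩
      have hox : orderOf x = r := by
        have h := Subgroup.orderOf_dvd_natCard _ hxz
        rw [Nat.card_zpowers, hg] at h
        exact (hr.eq_one_or_self_of_dvd _ h).resolve_left fun h' => hx1 (orderOf_eq_one_iff.mp h')
      have hzx : Subgroup.zpowers x = Subgroup.zpowers g :=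
        Subgroup.eq_of_le_of_card_ge (Subgroup.zpowers_le.mpr hxz)
          (by rw [Nat.card_zpowers, Nat.card_zpowers, hg, hox])
      suffices hCx : Subgroup.centralizer ({x} : Set E) = C from hCx ▸ hcyc
      rw [hC, ← Subgroup.centralizer_closure, ← Subgroup.zpowers_eq_closure, hzx,
        Subgroup.zpowers_eq_closure, Subgroup.centralizer_closure]
    rw [Finset.card_erase_of_mem (Finset.mem_filter.mpr ⟨Finset.mem_univ _, one_mem _⟩),
      ← Fintype.card_subtype, ← Nat.card_eq_fintype_card] at hs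
    rw [show Nat.card {u : E // u ∈ Subgroup.zpowers g} = r from (Nat.card_zpowers g).trans hg] at hs
    exact hs
  have hord : ∀ s : ℕ, s.Prime → s ∣ p ^ n - 1 → (∀ k, 0 < k → k < n → ¬ s ∣ p ^ k - 1) →
      n ∣ s - 1 := by
    intro s hs hsd hsp
    haveI := Fact.mk hs
    have hp0 : (p : ZMod s) ≠ 0 := fun h => by
      have h1 := (ZMod.natCast_eq_zero_iff p s).mp h
      have h2 : s ∣ 1 := by
        have h3 := Nat.dvd_sub (dvd_pow h1 hn0.ne') hsd
        rwa [Nat.sub_sub_self (Nat.one_le_pow _ _ hp.pos)] at h3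
      exact hs.one_lt.ne' (Nat.dvd_one.mp h2)
    have h1 : orderOf (p : ZMod s) ∣ n := orderOf_dvd_of_pow_eq_one
      ((CfsgLib.NumberTheory.dvd_pow_sub_one_iff hp.pos).1 hsd)
    have h2 : orderOf (p : ZMod s) = n := by
      refine le_antisymm (Nat.le_of_dvd hn0 h1) (not_lt.mp fun hlt => ?_)
      exact hsp _ (orderOf_pos_iff.mpr (isOfFinOrder_iff_pow_eq_one.mpr ⟨s - 1,
        Nat.sub_pos_of_lt hs.one_lt, ZMod.pow_card_sub_one_eq_one hp0⟩)) hlt
        ((CfsgLib.NumberTheory.dvd_pow_sub_one_iff hp.pos).2 (pow_orderOf_eq_one _))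
    exact h2 ▸ orderOf_dvd_of_pow_eq_one (ZMod.pow_card_sub_one_eq_one hp0)
  have hr2 : 2 ≤ r := hr.two_le
  have hreq : r = n + 1 := by
    have := Nat.le_of_dvd (by omega) (hord r hr hrd hrprim)
    omega
  have hr2E : ¬ r ^ 2 ∣ Nat.card E := by
    intro h
    obtain ⟨S, hS⟩ := (IsPGroup.of_card (n := 1) (by rw [Nat.card_zpowers, hg, pow_one]) :
      IsPGroup r (Subgroup.zpowers g)).exists_le_sylow
    have hScard : r ^ 2 ≤ Nat.card S := by
      rw [S.card_eq_multiplicity]
      exact Nat.pow_le_pow_right hr.pos ((hr.pow_dvd_iff_le_factorization Nat.card_pos.ne').mp h)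
    haveI : Nontrivial S := (Subgroup.nontrivial_iff_ne_bot _).mpr fun hb =>
      hg1 ((Subgroup.mem_bot).mp (hb ▸ hS (Subgroup.mem_zpowers g)))
    haveI : Nontrivial (Subgroup.center S) := S.2.center_nontrivial
    obtain ⟨z, hz1⟩ := exists_ne (1 : Subgroup.center S)
    have hgS : g ∈ S := hS (Subgroup.mem_zpowers g)
    have hzg : ((z : S) : E) ∈ Subgroup.zpowers g := hCeq ▸
      Subgroup.mem_centralizer_singleton_iff.mpr
        (congrArg Subtype.val (Subgroup.mem_center_iff.mp z.2 ⟨g, hgS⟩)).symm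
    have hzne : ((z : S) : E) ≠ 1 := fun h' => hz1 (Subtype.ext (Subtype.ext h'))
    have hgen : g ∈ Subgroup.zpowers ((z : S) : E) := by
      have : Subgroup.zpowers ((z : S) : E) = Subgroup.zpowers g :=
        Subgroup.eq_of_le_of_card_ge (Subgroup.zpowers_le.mpr hzg) (by
          rw [Nat.card_zpowers, Nat.card_zpowers, hg]
          have h' := Subgroup.orderOf_dvd_natCard _ hzg
          rw [Nat.card_zpowers, hg] at h'
          exact ((hr.eq_one_or_self_of_dvd _ h').resolve_left
            fun e => hzne (orderOf_eq_one_iff.mp e)).ge)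
      exact this ▸ Subgroup.mem_zpowers g
    have hle : (S : Subgroup E) ≤ Subgroup.zpowers g := fun s hs => hCeq ▸ by
      obtain ⟨j, hj⟩ := Subgroup.mem_zpowers_iff.mp hgen
      rw [hC, ← hj, Subgroup.mem_centralizer_singleton_iff]
      exact ((show Commute s ((z : S) : E) from
        congrArg Subtype.val (Subgroup.mem_center_iff.mp z.2 ⟨s, hs⟩)).zpow_right j).eq
    have h1 : Nat.card S ≤ r := (Subgroup.card_le_of_le hle).trans_eq (by rw [Nat.card_zpowers, hg])
    nlinarith [hr.two_le]
  rcases eq_or_ne n 4 with hn4 | hn4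
  · -- the central involution commutes with `g`
    have h2E : 2 ∣ Nat.card E := by
      refine dvd_trans ?_ hdvd
      exact (Nat.Odd.sub_odd ((hp.odd_of_ne_two hp2).pow) odd_one).two_dvd
    obtain ⟨S⟩ : Nonempty (Sylow 2 E) := inferInstance
    obtain ⟨z, -, hz, hzc⟩ := exists_central_involution S h2E
    have hneg := involution_eq_neg ρ hρ hp2 htrans (Or.inr (hn ▸ hn4)) S hz hzc
    have hzg : z ∈ Subgroup.zpowers g := hCeq ▸ Subgroup.mem_centralizer_singleton_iff.mpr
      (hρ (LinearEquiv.ext fun v => by rw [mul_apply' ρ, mul_apply' ρ, hneg, hneg, map_neg]))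
    have h' := Subgroup.orderOf_dvd_natCard _ hzg
    rw [Nat.card_zpowers, hg, hz] at h'
    have := (Nat.prime_dvd_prime_iff_eq Nat.prime_two hr).mp h'
    omega
  rcases eq_or_ne n 2 with hn2 | hn2
  · exact hr2E (sq_dvd_of_three_mod_four hr (by omega) hab (hrd.trans hdvd))
  rcases eq_or_ne n 6 with hn6 | hn6
  · exact hr2E (sq_dvd_of_three_mod_four hr (by omega) hab (hrd.trans hdvd))
  obtain ⟨q, hq, hqle⟩ := CfsgLib.NumberTheory.PrimitivePart.exists_prim hp.two_le (n := n)
    (by omega) (by
      simp only [List.mem_cons, List.not_mem_nil, Prod.mk.injEq, or_false, not_or, not_and]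
      refine ⟨?_, ?_, ?_, ?_, ?_, ?_, ?_, ?_, ?_, ?_, ?_, ?_, ?_⟩ <;> intro h <;>
        first
          | omega
          | (subst h; exact absurd hp (by norm_num)))
  -- every prime divisor of the primitive part is `r`
  have hqr : q ∣ r := by
    have hq0 : q ≠ 0 := by omega
    have hall : ∀ s : ℕ, s.Prime → s ∣ q → s = r := fun s hs hsq => by
      have hsp : ∀ k, 0 < k → k < n → ¬ s ∣ p ^ k - 1 := fun k hk hkn hd =>
        hs.one_lt.ne' (Nat.dvd_one.mp (hq.2 k hk hkn ▸ Nat.dvd_gcd hsq hd))
      have h1 := hord s hs (hsq.trans hq.1) hsp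
      haveI := Fact.mk hs
      obtain ⟨u, hu⟩ := exists_prime_orderOf_dvd_card' (G := E) s ((hsq.trans hq.1).trans hdvd)
      by_contra hne
      have hu1 : u ≠ 1 := fun h => hs.one_lt.ne' (by rw [← hu, h, orderOf_one])
      have hsp' : s ≠ p := fun h => hcop (h ▸ (hsq.trans hq.1).trans hdvd)
      have hfu : fixedSpace ρ u = ⊥ := by
        by_contra hne'
        have hlt : Module.finrank (ZMod p) (fixedSpace ρ u) < n := Submodule.finrank_lt fun h => hu1
          (hρ (by
            rw [map_one]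
            exact LinearEquiv.ext fun w => (mem_fixedSpace ρ).mp (h ▸ Submodule.mem_top)))
        have hpos : 0 < Module.finrank (ZMod p) (fixedSpace ρ u) :=
          Nat.pos_of_ne_zero fun h => hne' (Submodule.finrank_eq_zero.mp h)
        have h := card_modEq ρ hu (⊤ : Submodule (ZMod p) V) fun _ _ => Submodule.mem_top
        rw [top_inf_eq, card_eq (p := p) (V := (⊤ : Submodule (ZMod p) V)), finrank_top, ← hn,
          card_eq (p := p) (V := fixedSpace ρ u)] at h
        set f := Module.finrank (ZMod p) (fixedSpace ρ u)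
        have hdiv : s ∣ p ^ n - p ^ f :=
          (Nat.modEq_iff_dvd' (Nat.pow_le_pow_right hp.pos hlt.le)).mp h.symm
        rw [show p ^ n - p ^ f = p ^ f * (p ^ (n - f) - 1) by
          rw [Nat.mul_sub, mul_one, ← pow_add, Nat.add_sub_cancel' hlt.le]] at hdiv
        rcases hs.dvd_mul.mp hdiv with h' | h'
        · exact hsp' ((Nat.prime_dvd_prime_iff_eq hs hp).mp (hs.dvd_of_dvd_pow h'))
        · exact hsp (n - f) (by omega) (by omega) h'
      have hiu : ∀ W : Submodule (ZMod p) V, (∀ w ∈ W, ρ u w ∈ W) → W = ⊥ ∨ W = ⊤ := by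
        intro W hW
        by_contra hcon
        push Not at hcon
        have h := card_modEq ρ hu W hW
        rw [hfu, inf_bot_eq, card_eq (p := p) (V := (⊥ : Submodule (ZMod p) V)), finrank_bot,
          pow_zero, card_eq (p := p) (V := W)] at h
        exact hsp _ (Nat.pos_of_ne_zero fun h' => hcon.1 (Submodule.finrank_eq_zero.mp h'))
          (Submodule.finrank_lt hcon.2)
          ((Nat.modEq_iff_dvd' (Nat.one_le_pow _ _ hp.pos)).mp h.symm)
      obtain ⟨y, hy⟩ := isConj_iff.mp (hgood g u hg1 hu1 hgg (good_of_irreducible ρ hρ hiu))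
      refine hne ?_
      rw [← hu, ← hy, ← hg]
      exact (MulAut.conj y).orderOf_eq g
    rw [Nat.eq_prime_pow_of_unique_prime_dvd hq0 fun {s} hs hsq => hall s hs hsq]
    rcases Nat.lt_or_ge q.primeFactorsList.length 2 with hl | hl
    · exact (Nat.pow_dvd_pow r (Nat.lt_succ_iff.mp hl)).trans (pow_one r).dvd
    · refine absurd (((Nat.pow_dvd_pow r hl).trans ?_).trans (hq.1.trans hdvd)) hr2E
      exact (Nat.eq_prime_pow_of_unique_prime_dvd hq0 fun {s} hs hsq => hall s hs hsq).symm.dvd
  have := Nat.le_of_dvd hr.pos hqr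
  omega

end CfsgLib.Blocks.ThreeChars
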