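import Cfsg.Agent.Lib.Blocks.ThreeChars.Covered
import Cfsg.Agent.Lib.Blocks.ThreeChars.GoodClass
import Cfsg.Agent.Lib.Blocks.ThreeChars.Linear
import Cfsg.Agent.S4648
import Mathlib.Algebra.Module.ZMod

/-!
# A block with a normal abelian defect group and at most three characters

Its defect group has at most three elements: unless the block has `p`-regular rank one, the inertia
group of the canonical character acts transitively on the nontrivial linear characters of the defect
group, and the good elements of the inertial quotient form at most one nontrivial class.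
-/

set_option autoImplicit false
set_option linter.unusedSectionVars false
set_option linter.style.haveILetI false

namespace CfsgLib.Blocks.ThreeChars

open Cfsg
open scoped ComplexConjugate CfsgLib.Char

variable {p : ℕ} {H : Type*} [Group H] [Fintype H] {A C : Subgroup H} [C.Normal] [Fintype C]

open Classical in
/-- The characters over a character of the normal subgroup. -/
noncomputable def overIrr (C : Subgroup H) [Fintype C] (ψ : IrrCharacter C) :
    Finset (IrrCharacter H) :=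
  Finset.univ.filter fun χ => classInner (fun n : C => (χ : H → ℂ) n) (ψ : C → ℂ) ≠ 0

theorem mem_over {ψ : IrrCharacter C} {χ : IrrCharacter H} :
    χ ∈ overIrr C ψ ↔ classInner (fun n : C => (χ : H → ℂ) n) (ψ : C → ℂ) ≠ 0 := by
  simp [overIrr]

theorem over_nonempty (ψ : IrrCharacter C) : (overIrr C ψ).Nonempty := by
  obtain ⟨χ, hχ⟩ := exists_irr_above ψ
  exact ⟨χ, mem_over.mpr hχ⟩

/-- Two characters under a common one are conjugate. -/
theorem exists_conj_of_over {ψ ψ' : IrrCharacter C} {χ : IrrCharacter H} (h : χ ∈ overIrr C ψ)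
    (h' : χ ∈ overIrr C ψ') : ∃ g : H, Char.conjBy C (ψ : C → ℂ) g = (ψ' : C → ℂ) := by
  classical
  rw [mem_over] at h h'
  by_contra hno
  refine h' ?_
  rw [Char.clifford C χ.2 ψ.2 h, Char.classInner_smul_left, Char.classInner_sum_left,
    Finset.sum_eq_zero fun φ hφ => ?_, mul_zero]
  obtain ⟨g, rfl⟩ := (Char.mem_orbit C).mp hφ
  rw [Char.classInner_irr (Char.isIrrCharacter_conjBy C ψ.2 g) ψ'.2, if_neg fun e => hno ⟨g, e⟩]

/-- Conjugate characters have the same characters over them. -/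
theorem over_eq_of_conj {ψ ψ' : IrrCharacter C} {g : H}
    (h : Char.conjBy C (ψ : C → ℂ) g = (ψ' : C → ℂ)) : overIrr C ψ = overIrr C ψ' := by
  ext χ
  rw [mem_over, mem_over, ← h]
  nth_rw 2 [← Char.conjBy_restrict C (irr_classFunction χ) g]
  rw [Char.classInner_conjBy]

open Classical in
/-- The multiplicities over a character. -/
theorem exists_mult (ψ : IrrCharacter C) :
    ∃ e : IrrCharacter H → ℕ, (∀ χ, e χ ≠ 0 ↔ χ ∈ overIrr C ψ) ∧
      ∑ χ ∈ overIrr C ψ, e χ ^ 2 = C.relIndex (Char.inertia C (ψ : C → ℂ)) ∧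
      (∀ χ ∈ overIrr C ψ, e χ ∣ C.relIndex (Char.inertia C (ψ : C → ℂ))) ∧
      (∀ χ ∈ overIrr C ψ, (χ : H → ℂ) 1 =
        (e χ : ℂ) * ((Char.inertia C (ψ : C → ℂ)).index * (ψ : C → ℂ) 1)) ∧
      indFun C (ψ : C → ℂ) = ∑ χ ∈ overIrr C ψ, (e χ : ℂ) • (χ : H → ℂ) := by
  choose e he using fun χ : IrrCharacter H => Char.exists_nat_classInner
    (Char.isCharacter_restrict C (Char.isCharacter_of_isIrr χ.2)) (Char.isCharacter_of_isIrr ψ.2)
  have hne : ∀ χ, e χ ≠ 0 ↔ χ ∈ overIrr C ψ := fun χ => by rw [mem_over, he, Nat.cast_ne_zero]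
  have hzero : ∀ χ, χ ∉ overIrr C ψ → e χ = 0 := fun χ h => by
    by_contra h'
    exact h ((hne χ).mp h')
  have hexp : indFun C (ψ : C → ℂ) = ∑ χ : IrrCharacter H, (e χ : ℂ) • (χ : H → ℂ) := by
    conv_lhs => rw [Char.classFunction_expansion (Char.isClassFunction_indFun C (ψ : C → ℂ))]
    refine Finset.sum_congr rfl fun χ _ => ?_
    rw [Char.frobenius_reciprocity C (ψ : C → ℂ) (irr_classFunction χ), ← Char.classInner_conj_symm,
      he, map_natCast]
  set I := Char.inertia C (ψ : C → ℂ)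
  have hCI : C ≤ I := Char.le_inertia C (Char.isClassFunction_of_isCharacter
    (Char.isCharacter_of_isIrr ψ.2))
  have hdeg : ∀ χ ∈ overIrr C ψ, (χ : H → ℂ) 1 = (e χ : ℂ) * (I.index * (ψ : C → ℂ) 1) :=
    fun χ hχ => by
      rw [Char.clifford_degree C χ.2 ψ.2 (mem_over.mp hχ), he, Char.card_orbit_eq_index]
  refine ⟨e, hne, ?_, fun χ hχ => ?_, hdeg, ?_⟩
  · have h := Char.classInner_indFun_indFun C ψ.2 ψ.2
    rw [if_pos (Char.self_mem_orbit C _), hexp, Char.classInner_sum_smul_sum_smul] at h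
    simp only [map_natCast] at h
    rw [← Subgroup.card_mul_index (C.subgroupOf I), show (C.subgroupOf I).index = C.relIndex I
      from rfl, Nat.card_congr (Subgroup.subgroupOfEquivOfLe hCI).toEquiv, Nat.cast_mul,
      mul_div_cancel_left₀ _ (Nat.cast_ne_zero.mpr Nat.card_pos.ne')] at h
    rw [Finset.sum_subset (Finset.subset_univ _) fun χ _ h' => by rw [hzero χ h', sq, mul_zero]]
    simp only [pow_two]
    exact_mod_cast h
  · obtain ⟨k, hk, hkd⟩ := Char.degree_ratio C ψ.2 χ.2 (mem_over.mp hχ)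
    rw [hdeg χ hχ, ← mul_assoc] at hk
    have hk' : e χ * I.index = k := by
      exact_mod_cast mul_right_cancel₀ (Char.irr_degree_ne_zero ψ.2) hk
    rw [← hk', ← Subgroup.relIndex_mul_index hCI] at hkd
    exact Nat.dvd_of_mul_dvd_mul_right (Nat.pos_of_ne_zero I.index_ne_zero_of_finite) hkd
  · rw [hexp]
    exact (Finset.sum_subset (Finset.subset_univ _) fun χ _ h' => by
      rw [hzero χ h', Nat.cast_zero, zero_smul]).symm

/-- At the elements of order prime to `p` all members of the covered block agree. -/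
theorem Covered.eq_of_regular [Fact p.Prime] {M : Ideal AlgInt} {b : Set (IrrCharacter H)}
    {hAC : A ≤ C} (S : Covered p M b hAC) {ψ : IrrCharacter C} (hψ : ψ ∈ S.c) {z : C}
    (hz : IsPRegular p z) : (ψ : C → ℂ) z = (S.θ : C → ℂ) z := by
  obtain ⟨l, hl⟩ := S.lin ψ hψ
  have hpp : IsPPart p z 1 := ⟨z, one_mul z, Commute.one_left z, ⟨0, by simp⟩, hz⟩
  rw [S.val ψ hψ l hl z 1 (one_mem A) hpp,
    show (⟨((1 : C) : H), one_mem A⟩ : A) = 1 from rfl, map_one, Units.val_one, one_mul]

/-- How conjugation moves the members of the covered block. -/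
theorem Covered.conjBy_eq_iff [Fact p.Prime] {M : Ideal AlgInt} {b : Set (IrrCharacter H)}
    [hA : A.Normal] {hAC : A ≤ C} (S : Covered p M b hAC) {ψ ψ' : IrrCharacter C} (hψ : ψ ∈ S.c)
    (hψ' : ψ' ∈ S.c) {l l' : A →* ℂˣ} (hl : Attached hAC S.θ ψ l) (hl' : Attached hAC S.θ ψ' l')
    (g : H) :
    Char.conjBy C (ψ : C → ℂ) g = (ψ' : C → ℂ) ↔ g ∈ Char.inertia C (S.θ : C → ℂ) ∧
      ∀ v : A, l ⟨g * v * g⁻¹, hA.conj_mem v v.2 g⟩ = l' v := by
  classical
  let σ : C ≃* C := MulAut.conjNormal g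
  have hσ : ∀ z : C, ((σ z : C) : H) = g * z * g⁻¹ := fun z => MulAut.conjNormal_apply g z
  have hθ1 : (S.θ : C → ℂ) 1 ≠ 0 := Char.irr_degree_ne_zero S.θ.2
  have hcb : ∀ (f : C → ℂ) (z : C), Char.conjBy C f g z = f (σ z) := fun f z => by
    rw [Char.conjBy_eq_comp]
  have hmem : ∀ x : C, ((σ x : C) : H) ∈ A ↔ (x : H) ∈ A := fun x => by
    rw [hσ]
    refine ⟨fun h => ?_, fun h => hA.conj_mem _ h g⟩
    simpa [mul_assoc] using hA.conj_mem _ h g⁻¹
  constructor
  · intro h
    have hlin : ∀ v : A, l ⟨g * v * g⁻¹, hA.conj_mem v v.2 g⟩ = l' v := fun v => by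
      have h1 := congrFun h ⟨(v : H), hAC v.2⟩
      rw [hl' v, hcb] at h1
      have h2 : (ψ : C → ℂ) (σ ⟨(v : H), hAC v.2⟩) =
          (S.θ : C → ℂ) 1 * (l ⟨g * v * g⁻¹, hA.conj_mem v v.2 g⟩ : ℂ) := by
        rw [← hl ⟨g * v * g⁻¹, hA.conj_mem v v.2 g⟩]
        exact congrArg _ (Subtype.ext (hσ _))
      exact Units.ext (mul_left_cancel₀ hθ1 (h2.symm.trans h1))
    refine ⟨(Char.mem_inertia C).mpr (funext fun z => ?_), hlin⟩
    obtain ⟨x, hx, -⟩ := exists_isPPart (Fact.out : p.Prime) z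
    have hσx := isPPart_map σ hx
    rw [hcb]
    by_cases hxA : (x : H) ∈ A
    · have h1 := congrFun h z
      rw [hcb, S.val ψ hψ l hl _ _ ((hmem x).mpr hxA) hσx, S.val ψ' hψ' l' hl' z x hxA hx,
        ← hlin ⟨(x : H), hxA⟩,
        show (⟨((σ x : C) : H), (hmem x).mpr hxA⟩ : A) = ⟨g * x * g⁻¹, hA.conj_mem _ hxA g⟩
          from Subtype.ext (hσ x)] at h1
      exact mul_left_cancel₀ (Units.ne_zero _) h1
    · rw [S.vanish _ S.mem _ _ hσx fun h' => hxA ((hmem x).mp h'), S.vanish _ S.mem z x hx hxA]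
  · rintro ⟨hg, hlin⟩
    funext z
    obtain ⟨x, hx, -⟩ := exists_isPPart (Fact.out : p.Prime) z
    have hσx := isPPart_map σ hx
    have hθz : (S.θ : C → ℂ) (σ z) = (S.θ : C → ℂ) z := by
      rw [← hcb (S.θ : C → ℂ) z]; exact congrFun ((Char.mem_inertia C).mp hg) z
    rw [hcb]
    by_cases hxA : (x : H) ∈ A
    · rw [S.val ψ hψ l hl _ _ ((hmem x).mpr hxA) hσx, S.val ψ' hψ' l' hl' z x hxA hx,
        ← hlin ⟨(x : H), hxA⟩, hθz]
      congr 3
    · rw [S.vanish _ hψ _ _ hσx fun h' => hxA ((hmem x).mp h'), S.vanish _ hψ' z x hx hxA]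

/-- One character over each member of the covered block forces `p`-regular rank one. -/
theorem blockRank_eq_one [Fact p.Prime] {M : Ideal AlgInt}
    {b : Set (IrrCharacter H)} {hAC : A ≤ C} (S : Covered p M b hAC)
    (hone : ∀ ψ ∈ S.c, (overIrr C ψ).card ≤ 1) : blockRank p b = 1 := by
  classical
  have hp : p.Prime := Fact.out
  obtain ⟨χ₀, hχ₀⟩ := over_nonempty S.θ
  have hχ₀b : χ₀ ∈ b := S.up _ S.mem _ (mem_over.mp hχ₀)
  have hsingle : ∀ ψ ∈ S.c, ∀ χ ∈ overIrr C ψ, overIrr C ψ = {χ} := fun ψ hψ χ hχ =>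
    Finset.eq_singleton_iff_unique_mem.mpr
      ⟨hχ, fun χ' hχ' => Finset.card_le_one.mp (hone ψ hψ) _ hχ' _ hχ⟩
  obtain ⟨e₀, he₀, -, -, -, hind₀⟩ := exists_mult (C := C) S.θ
  rw [hsingle _ S.mem _ hχ₀, Finset.sum_singleton] at hind₀
  have hspan : ∀ χ ∈ b, pRegularPart p (χ : H → ℂ) ∈
      Submodule.span ℂ {pRegularPart p (χ₀ : H → ℂ)} := by
    intro χ hχ
    obtain ⟨ψ, hψ, hover⟩ := S.down χ hχ
    obtain ⟨e, he, -, -, -, hind⟩ := exists_mult (C := C) ψ
    have heχ : (e χ : ℂ) ≠ 0 := Nat.cast_ne_zero.mpr ((he χ).mpr (mem_over.mpr hover))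
    rw [hsingle ψ hψ χ (mem_over.mpr hover), Finset.sum_singleton] at hind
    have key : ∀ y : H, IsPRegular p y →
        indFun C (ψ : C → ℂ) y = indFun C (S.θ : C → ℂ) y := by
      intro y hy
      by_cases hyC : y ∈ C
      · rw [Char.indFun_apply_of_normal C _ ⟨y, hyC⟩, Char.indFun_apply_of_normal C _ ⟨y, hyC⟩]
        congr 1
        refine Finset.sum_congr rfl fun x _ => S.eq_of_regular hψ ?_
        intro hd
        refine hy ?_
        rwa [← Subgroup.orderOf_coe, show orderOf (x * y * x⁻¹) = orderOf y from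
          (MulAut.conj x).orderOf_eq y] at hd
      · rw [Char.indFun_notMem_of_normal C _ hyC, Char.indFun_notMem_of_normal C _ hyC]
    refine Submodule.mem_span_singleton.mpr ⟨(e₀ χ₀ : ℂ) / (e χ : ℂ), funext fun y => ?_⟩
    by_cases hy : IsPRegular p y
    · have h := key y hy
      rw [hind, hind₀] at h
      simp only [Pi.smul_apply, smul_eq_mul] at h
      simp only [pRegularPart, Pi.smul_apply, smul_eq_mul, if_pos hy]
      field_simp
      linear_combination -h
    · simp [pRegularPart, hy]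
  refine le_antisymm ?_ (Nat.pos_of_ne_zero fun h0 => ?_)
  · refine le_trans (Submodule.finrank_mono (Submodule.span_le.mpr ?_))
      (finrank_span_le_card ({pRegularPart p (χ₀ : H → ℂ)} : Set (H → ℂ))|>.trans (by simp))
    rintro _ ⟨χ, hχ, rfl⟩
    exact hspan χ hχ
  · have hmem : pRegularPart p (χ₀ : H → ℂ) ∈
        Submodule.span ℂ ((fun χ : IrrCharacter H => pRegularPart p (χ : H → ℂ)) '' b) :=
      Submodule.subset_span ⟨χ₀, hχ₀b, rfl⟩
    rw [blockRank] at h0
    rw [Submodule.finrank_eq_zero.mp h0, Submodule.mem_bot] at hmem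
    have h1 := congrFun hmem 1
    have hreg : IsPRegular p (1 : H) := by rw [IsPRegular, orderOf_one]; exact hp.not_dvd_one
    simp only [pRegularPart, if_pos hreg, Pi.zero_apply] at h1
    exact Char.irr_degree_ne_zero χ₀.2 h1

/-- `linear_main` for an action on an elementary abelian group written multiplicatively. -/
theorem card_eq_three_of_action [Fact p.Prime] {E L : Type*} [Group E] [Finite E] [CommGroup L]
    [Finite L] [Nontrivial L] (helem : ∀ l : L, l ^ p = 1) (φ : E →* MulAut L)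
    (hφ : Function.Injective φ) (hp2 : p ≠ 2) (hcop : ¬ p ∣ Nat.card E)
    (htrans : ∀ l l' : L, l ≠ 1 → l' ≠ 1 → ∃ x : E, φ x l = l')
    (hgood : ∀ x y : E, x ≠ 1 → y ≠ 1 → Good x → Good y → IsConj x y)
    (h2 : (∀ x : E, Good x → x = 1) ∨ ∃ a c : ℕ, Nat.card E = a ^ 2 + c ^ 2) :
    Nat.card L = 3 := by
  letI : Module (ZMod p) (Additive L) := AddCommGroup.zmodModule (n := p) fun w =>
    congrArg Additive.ofMul (helem (Additive.toMul w))
  let endo : E →* Module.End (ZMod p) (Additive L) :=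
    { toFun := fun x => (MonoidHom.toAdditive (φ x).toMonoidHom).toZModLinearMap p
      map_one' := LinearMap.ext fun w => by
        show Additive.ofMul (φ 1 (Additive.toMul w)) = w
        rw [map_one]; rfl
      map_mul' := fun x y => LinearMap.ext fun w => by
        show Additive.ofMul (φ (x * y) (Additive.toMul w)) =
          Additive.ofMul (φ x (φ y (Additive.toMul w)))
        rw [map_mul]; rfl }
  let ρ : E →* (Additive L ≃ₗ[ZMod p] Additive L) :=
    (LinearMap.GeneralLinearGroup.generalLinearEquiv (ZMod p) (Additive L)).toMonoidHom.comp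
      endo.toHomUnits
  have hρ : ∀ (x : E) (l : L), ρ x (Additive.ofMul l) = Additive.ofMul (φ x l) := fun _ _ => rfl
  have h := linear_main ρ (fun x y hxy => hφ (MulEquiv.ext fun l => Additive.ofMul.injective (by
    rw [← hρ, ← hρ, hxy]))) hp2 hcop (fun v w hv hw => by
      obtain ⟨x, hx⟩ := htrans (Additive.toMul v) (Additive.toMul w)
        (fun h => hv (congrArg Additive.ofMul h)) (fun h => hw (congrArg Additive.ofMul h))
      exact ⟨x, (hρ x (Additive.toMul v)).trans (congrArg Additive.ofMul hx)⟩) hgood h2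
  exact h

set_option maxHeartbeats 1600000 in
/-- **Normal abelian defect groups of blocks with at most three characters.** -/
theorem card_le_three [hfact : Fact p.Prime] {M : Ideal AlgInt} (hM : IsPModular p M)
    {b : Set (IrrCharacter H)} (hb : IsPBlock M b) (A : Subgroup H) [hA : A.Normal]
    (hcomm : ∀ x ∈ A, ∀ y ∈ A, x * y = y * x) (hD : IsDefectGroup p M b A)
    (hk : Nat.card b ≤ 3) : Nat.card A ≤ 3 := by
  classical
  have := isPrime_of_isPModular hM
  have hp : p.Prime := Fact.out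
  rcases eq_or_ne A ⊥ with rfl | hA1
  · rw [Subgroup.card_bot]; norm_num
  have hAp : IsPGroup p A := IsDefectGroup.isPGroup hM hD
  set C := Subgroup.centralizer (A : Set H) with hCdef
  haveI : C.Normal := NormalDefect.cent_normal
  haveI : Fintype C := Fintype.ofFinite _
  have hAC : A ≤ C := fun a ha => fun y hy => hcomm y hy a ha
  obtain ⟨S⟩ := exists_covered hM hb hA hD hcomm hCdef hAC
  by_cases hone : ∀ ψ ∈ S.c, (overIrr C ψ).card ≤ 1
  · have h := (Cfsg.Agent.S4648.result p M hM b hb A hD hA1 (blockRank_eq_one S hone)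
      (by omega)).2.1
    omega
  push Not at hone
  set T := Char.inertia C (S.θ : C → ℂ) with hT
  have hCT : C ≤ T := Char.le_inertia C (Char.isClassFunction_of_isCharacter
    (Char.isCharacter_of_isIrr S.θ.2))
  have hbT : b.toFinset.card ≤ 3 := by rwa [← Nat.card_eq_card_toFinset]
  have hsub : ∀ ψ ∈ S.c, overIrr C ψ ⊆ b.toFinset := fun ψ hψ χ hχ =>
    Set.mem_toFinset.mpr (S.up ψ hψ χ (mem_over.mp hχ))
  -- `θ` is alone
  have hθalone : ∀ ψ ∈ S.c, ψ ≠ S.θ → Disjoint (overIrr C S.θ) (overIrr C ψ) := by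
    intro ψ hψ hne
    rw [Finset.disjoint_left]
    intro χ h1 h2
    obtain ⟨g, hg⟩ := exists_conj_of_over h1 h2
    obtain ⟨l, hl⟩ := S.lin ψ hψ
    obtain ⟨hgT, hlin⟩ := (S.conjBy_eq_iff S.mem hψ S.triv hl g).mp hg
    exact hne (Subtype.ext (hg.symm.trans ((Char.mem_inertia C).mp hgT)))
  have htot : ∀ ψ ∈ S.c, ψ ≠ S.θ → (overIrr C S.θ).card + (overIrr C ψ).card ≤ 3 := fun ψ hψ hne => by
    rw [← Finset.card_union_of_disjoint (hθalone ψ hψ hne)]
    exact (Finset.card_le_card (Finset.union_subset (hsub _ S.mem) (hsub ψ hψ))).trans hbT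
  have hpos : ∀ ψ : IrrCharacter C, 1 ≤ (overIrr C ψ).card := fun ψ => (over_nonempty ψ).card_pos
  -- the other members are conjugate
  have hshare : ∀ ψ ∈ S.c, ∀ ψ' ∈ S.c, ψ ≠ S.θ → ψ' ≠ S.θ →
      ∃ g : H, Char.conjBy C (ψ : C → ℂ) g = (ψ' : C → ℂ) := by
    intro ψ hψ ψ' hψ' hne hne'
    by_contra hno
    have hd : Disjoint (overIrr C ψ) (overIrr C ψ') := Finset.disjoint_left.mpr fun χ h1 h2 =>
      hno (exists_conj_of_over h1 h2)
    have h3 : (overIrr C S.θ).card + ((overIrr C ψ).card + (overIrr C ψ').card) ≤ 3 := by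
      rw [← Finset.card_union_of_disjoint hd, ← Finset.card_union_of_disjoint
        (Finset.disjoint_union_right.mpr ⟨hθalone ψ hψ hne, hθalone ψ' hψ' hne'⟩)]
      exact (Finset.card_le_card (Finset.union_subset (hsub _ S.mem)
        (Finset.union_subset (hsub ψ hψ) (hsub ψ' hψ')))).trans hbT
    obtain ⟨φ, hφ, hφ2⟩ := hone
    have := hpos S.θ
    have := hpos ψ
    have := hpos ψ'
    have hφne : φ ≠ S.θ := fun e => by rw [e] at hφ2; omega
    by_cases hs : ∃ χ ∈ overIrr C φ, χ ∈ overIrr C ψ ∨ χ ∈ overIrr C ψ'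
    · obtain ⟨χ, h1, h2 | h2⟩ := hs
      all_goals
        obtain ⟨g, hg⟩ := exists_conj_of_over h1 h2
        rw [over_eq_of_conj hg] at hφ2
        omega
    · push Not at hs
      have hd' : Disjoint (overIrr C φ) (overIrr C ψ ∪ overIrr C ψ') := Finset.disjoint_left.mpr
        fun χ h1 h2 => (Finset.mem_union.mp h2).elim (hs χ h1).1 (hs χ h1).2
      have h4 := Finset.card_le_card (Finset.union_subset (hsub φ hφ)
        (Finset.union_subset (hsub ψ hψ) (hsub ψ' hψ')))
      rw [Finset.card_union_of_disjoint hd', Finset.card_union_of_disjoint hd] at h4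
      omega
  -- a nontrivial member
  obtain ⟨a₀, ha₀, ha₀1⟩ := (Subgroup.ne_bot_iff_exists_ne_one.mp hA1 : ∃ a : A, a ≠ 1) |>
    fun ⟨a, ha⟩ => (⟨a, a.2, ha⟩ : ∃ a : A, (a : H) ∈ A ∧ a ≠ 1)
  letI : CommGroup A :=
    { (inferInstance : Group A) with mul_comm := fun a b => Subtype.ext (hcomm _ a.2 _ b.2) }
  obtain ⟨dual⟩ := CommGroup.monoidHom_mulEquiv_of_hasEnoughRootsOfUnity A ℂ
  haveI : Finite (A →* ℂˣ) := Finite.of_equiv _ dual.symm.toEquiv
  have hne_of : ∀ ψ : IrrCharacter C, ∀ l : A →* ℂˣ, Attached hAC S.θ ψ l → l ≠ 1 → ψ ≠ S.θ := by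
    rintro ψ l hl hl1 rfl
    refine hl1 (MonoidHom.ext fun v => Units.ext ?_)
    exact mul_left_cancel₀ (Char.irr_degree_ne_zero S.θ.2) ((hl v).symm.trans (S.triv v))
  obtain ⟨l₁, hl₁⟩ := CommGroup.exists_apply_ne_one_of_hasEnoughRootsOfUnity A ℂ ha₀1
  have hl₁1 : l₁ ≠ 1 := fun e => hl₁ (by rw [e]; rfl)
  obtain ⟨ψ₁, hψ₁, hψl₁⟩ := S.surj l₁
  have hψ₁ne := hne_of ψ₁ l₁ hψl₁ hl₁1
  have hrest : ∀ ψ ∈ S.c, ψ ≠ S.θ → (overIrr C ψ).card = (overIrr C ψ₁).card := fun ψ hψ hne => by
    obtain ⟨g, hg⟩ := hshare ψ hψ ψ₁ hψ₁ hne hψ₁ne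
    rw [over_eq_of_conj hg]
  -- the inertial quotient is prime to `p`
  obtain ⟨e, he, hsumθ, hdvdθ, hdegθ, -⟩ := exists_mult (C := C) S.θ
  rw [← hT] at hsumθ hdvdθ
  have hTC0 : C.relIndex T ≠ 0 := Subgroup.index_ne_zero_of_finite
  have hdef := IsDefectGroup.card_eq hM hb hD
  have hcop : ¬ p ∣ C.relIndex T := by
    intro hd
    have ht : 0 < (C.relIndex T).factorization p := hp.factorization_pos_of_dvd hTC0 hd
    have hall : ∀ χ ∈ overIrr C S.θ, p ^ (2 * (C.relIndex T).factorization p) ∣ e χ ^ 2 := by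
      intro χ hχ
      have heχ : e χ ≠ 0 := (he χ).mpr hχ
      rw [mul_comm, pow_mul]
      refine pow_dvd_pow_of_dvd ((hp.pow_dvd_iff_le_factorization heχ).mpr ?_) 2
      obtain ⟨hdle, -, hall, -⟩ := blockDefect_le_and_degree hM hb
      have h1 := hall χ (S.up _ S.mem χ (mem_over.mp hχ))
      have h2 : charDegree (χ : H → ℂ) = e χ * (T.index * charDegree (S.θ : C → ℂ)) := by
        refine Nat.cast_injective (R := ℂ) ?_
        push_cast
        rw [← (irr_degree_eq χ).1, ← (irr_degree_eq S.θ).1, hdegθ χ hχ]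
      have hT0 : T.index ≠ 0 := T.index_ne_zero_of_finite
      have hθ0 : charDegree (S.θ : C → ℂ) ≠ 0 := (irr_degree_eq S.θ).2.ne'
      rw [h2, Nat.factorization_mul heχ (mul_ne_zero hT0 hθ0), Finsupp.add_apply,
        Nat.factorization_mul hT0 hθ0, Finsupp.add_apply, S.deg] at h1
      have h3 : A.index = A.relIndex C * (C.relIndex T * T.index) := by
        rw [Subgroup.relIndex_mul_index hCT, Subgroup.relIndex_mul_index hAC]
      have h4 : (Nat.card H).factorization p = blockDefect p b + A.index.factorization p := by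
        rw [← A.card_mul_index, hdef, Nat.factorization_mul (pow_ne_zero _ hp.ne_zero)
          A.index_ne_zero_of_finite, Finsupp.add_apply, hp.factorization_pow, Finsupp.single_eq_same]
      have hAC0 : A.relIndex C ≠ 0 := Subgroup.index_ne_zero_of_finite
      rw [h4, h3, Nat.factorization_mul hAC0 (mul_ne_zero hTC0 hT0), Finsupp.add_apply,
        Nat.factorization_mul hTC0 hT0, Finsupp.add_apply] at h1
      omega
    have h := Finset.dvd_sum hall
    rw [hsumθ, hp.pow_dvd_iff_le_factorization hTC0] at h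
    omega
  -- two characters over one member
  have hpair : ∀ ψ : IrrCharacter C, (overIrr C ψ).card = 2 → ∃ a c : ℕ,
      C.relIndex (Char.inertia C (ψ : C → ℂ)) = a ^ 2 + c ^ 2 ∧
      a ∣ C.relIndex (Char.inertia C (ψ : C → ℂ)) ∧
      c ∣ C.relIndex (Char.inertia C (ψ : C → ℂ)) := by
    intro ψ h2
    obtain ⟨e', -, hsum, hdvd, -, -⟩ := exists_mult (C := C) ψ
    obtain ⟨x, y, hxy, hxy'⟩ := Finset.card_eq_two.mp h2
    rw [hxy', Finset.sum_pair hxy] at hsum
    exact ⟨e' x, e' y, hsum.symm, hdvd x (by simp [hxy']), hdvd y (by simp [hxy'])⟩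
  have hn1 := htot ψ₁ hψ₁ hψ₁ne
  have hposθ := hpos S.θ
  have hpos₁ := hpos ψ₁
  have hcases : (overIrr C S.θ).card = 2 ∧ (overIrr C ψ₁).card = 1 ∨
      (overIrr C S.θ).card = 1 ∧ (overIrr C ψ₁).card = 2 := by
    obtain ⟨φ, hφ, hφ2⟩ := hone
    rcases eq_or_ne φ S.θ with rfl | hne
    · omega
    · have := hrest φ hφ hne; omega
  -- `p` is odd
  have hp2 : p ≠ 2 := by
    rintro rfl
    have hodd : ∀ ψ ∈ S.c, (overIrr C ψ).card = 2 → False := by
      intro ψ hψ h2
      obtain ⟨a, c, hac, ha, hc⟩ := hpair ψ h2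
      obtain ⟨l, hl⟩ := S.lin ψ hψ
      have hIT : Char.inertia C (ψ : C → ℂ) ≤ T := fun g hg =>
        ((S.conjBy_eq_iff hψ hψ hl hl g).mp ((Char.mem_inertia C).mp hg)).1
      have hI2 : ¬ 2 ∣ C.relIndex (Char.inertia C (ψ : C → ℂ)) := fun h =>
        hcop (h.trans (Dvd.intro _ (Subgroup.relIndex_mul_relIndex _ _ _
          (Char.le_inertia C (Char.isClassFunction_of_isCharacter (Char.isCharacter_of_isIrr ψ.2)))
          hIT)))
      have ha2 : a % 2 = 1 := Nat.two_dvd_ne_zero.mp fun h => hI2 (h.trans ha)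
      have hc2 : c % 2 = 1 := Nat.two_dvd_ne_zero.mp fun h => hI2 (h.trans hc)
      refine hI2 ?_
      simp [hac, Nat.dvd_iff_mod_eq_zero, Nat.add_mod, Nat.pow_mod, ha2, hc2]
    rcases hcases with ⟨h, -⟩ | ⟨-, h⟩
    · exact hodd _ S.mem h
    · exact hodd _ hψ₁ h
  -- transitivity on the nontrivial linear characters
  have htransT : ∀ l l' : A →* ℂˣ, l ≠ 1 → l' ≠ 1 →
      ∃ g ∈ T, ∀ v : A, l ⟨g * v * g⁻¹, hA.conj_mem v v.2 g⟩ = l' v := by
    intro l l' hl hl'
    obtain ⟨ψ, hψ, hψl⟩ := S.surj l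
    obtain ⟨ψ', hψ', hψl'⟩ := S.surj l'
    obtain ⟨g, hg⟩ := hshare ψ hψ ψ' hψ' (hne_of ψ l hψl hl) (hne_of ψ' l' hψl' hl')
    exact ⟨g, (S.conjBy_eq_iff hψ hψ' hψl hψl' g).mp hg⟩
  -- the dual group is elementary abelian
  have hcardL : Nat.card (A →* ℂˣ) = Nat.card A := Nat.card_congr dual.toEquiv
  obtain ⟨d, hd⟩ := IsPGroup.iff_card.mp hAp
  have hd0 : d ≠ 0 := fun e0 => hA1 (Subgroup.card_eq_one.mp (by rw [hd, e0, pow_zero]))
  haveI : Fintype (A →* ℂˣ) := Fintype.ofFinite _
  obtain ⟨l₂, hl₂⟩ := exists_prime_orderOf_dvd_card' (G := A →* ℂˣ) p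
    (by rw [hcardL, hd]; exact dvd_pow_self p hd0)
  have hl₂1 : l₂ ≠ 1 := fun e1 => hp.one_lt.ne (by rw [← hl₂, e1, orderOf_one])
  have helem : ∀ l : A →* ℂˣ, l ^ p = 1 := by
    intro l
    rcases eq_or_ne l 1 with rfl | hl
    · exact MonoidHom.ext fun v => by simp
    obtain ⟨g, -, hg⟩ := htransT l₂ l hl₂1 hl
    refine MonoidHom.ext fun v => ?_
    rw [MonoidHom.pow_apply, MonoidHom.one_apply, ← hg v, ← MonoidHom.pow_apply, ← hl₂,
      pow_orderOf_eq_one, MonoidHom.one_apply]
  -- the action of the inertial quotient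
  set C' := C.subgroupOf T with hC'def
  haveI : C'.Normal := Subgroup.normal_subgroupOf
  haveI : Fintype T := Fintype.ofFinite _
  haveI : Fintype C' := Fintype.ofFinite _
  haveI : Nontrivial (A →* ℂˣ) := ⟨⟨l₁, 1, hl₁1⟩⟩
  let act : T → (A →* ℂˣ) → (A →* ℂˣ) := fun g l =>
    l.comp (MulAut.conjNormal ((g : H))⁻¹ : MulAut A).toMonoidHom
  have hact : ∀ (g : T) (l : A →* ℂˣ) (v : A), act g l v =
      l ⟨(g : H)⁻¹ * v * (g : H), by simpa using hA.conj_mem v v.2 (g : H)⁻¹⟩ := fun g l v =>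
    congrArg l (Subtype.ext (by simp))
  have hact1 : ∀ (g : T), (g : H) ∈ C → ∀ l, act g l = l := fun g hg l => by
    refine MonoidHom.ext fun v => ?_
    rw [hact]
    refine congrArg l (Subtype.ext ?_)
    show (g : H)⁻¹ * v * (g : H) = v
    rw [mul_assoc, Subgroup.mem_centralizer_iff.mp hg (v : H) v.2, inv_mul_cancel_left]
  have hactmul : ∀ g g' : T, ∀ l, act (g * g') l = act g (act g' l) := fun g g' l => by
    refine MonoidHom.ext fun v => ?_
    rw [hact, hact, hact]
    exact congrArg l (Subtype.ext (by simp [mul_assoc]))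
  let φT : T →* MulAut (A →* ℂˣ) :=
    { toFun := fun g =>
        { toFun := act g
          invFun := act g⁻¹
          left_inv := fun l => by rw [← hactmul, inv_mul_cancel, hact1 1 (one_mem C)]
          right_inv := fun l => by rw [← hactmul, mul_inv_cancel, hact1 1 (one_mem C)]
          map_mul' := fun _ _ => rfl }
      map_one' := MulEquiv.ext fun l => hact1 1 (one_mem C) l
      map_mul' := fun g g' => MulEquiv.ext fun l => hactmul g g' l }
  have hker : C' ≤ φT.ker := fun g hg => by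
    rw [MonoidHom.mem_ker]
    exact MulEquiv.ext fun l => hact1 g (Subgroup.mem_subgroupOf.mp hg) l
  let φ : T ⧸ C' →* MulAut (A →* ℂˣ) := QuotientGroup.lift C' φT hker
  have hφapp : ∀ (g : T) (l : A →* ℂˣ), φ (QuotientGroup.mk' C' g) l = act g l := fun g l => rfl
  have hφinj : Function.Injective φ := by
    rw [injective_iff_map_eq_one]
    intro q hq
    obtain ⟨g, rfl⟩ := QuotientGroup.mk'_surjective C' q
    rw [QuotientGroup.mk'_apply, QuotientGroup.eq_one_iff, Subgroup.mem_subgroupOf, hCdef,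
      Subgroup.mem_centralizer_iff]
    intro v hv
    by_contra hne
    set v' : A := ⟨(g : H)⁻¹ * v * (g : H), by simpa using hA.conj_mem v hv (g : H)⁻¹⟩
    have hv' : v' * (⟨v, hv⟩ : A)⁻¹ ≠ 1 := fun h => hne (by
      have h' : (g : H)⁻¹ * v * (g : H) = v := congrArg Subtype.val (mul_inv_eq_one.mp h)
      conv_rhs => rw [← h']
      group)
    obtain ⟨l, hl⟩ := CommGroup.exists_apply_ne_one_of_hasEnoughRootsOfUnity A ℂ hv'
    refine hl ?_
    have h := MulEquiv.congr_fun hq l
    rw [hφapp] at h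
    have h2 : act g l ⟨v, hv⟩ = l ⟨v, hv⟩ := DFunLike.congr_fun h _
    rw [hact] at h2
    rw [map_mul, map_inv, mul_inv_eq_one]
    exact h2
  have htrans : ∀ l l' : A →* ℂˣ, l ≠ 1 → l' ≠ 1 → ∃ q : T ⧸ C', φ q l = l' := by
    intro l l' hl hl'
    obtain ⟨g, hgT, hg⟩ := htransT l' l hl' hl
    refine ⟨QuotientGroup.mk' C' ⟨g, hgT⟩, ?_⟩
    rw [hφapp]
    refine MonoidHom.ext fun u => ?_
    rw [hact, ← hg]
    exact congrArg _ (Subtype.ext (by simp [mul_assoc]))
  have hE : Nat.card (T ⧸ C') = C.relIndex T := rfl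
  -- the good classes
  have hθ' : IsIrrCharacter C' (fun n => (S.θ : C → ℂ) (Subgroup.subgroupOfEquivOfLe hCT n)) :=
    (Char.isIrrCharacter_comp_equiv _).mpr S.θ.2
  have hinv : ∀ g : T, Char.conjBy C'
      (fun n => (S.θ : C → ℂ) (Subgroup.subgroupOfEquivOfLe hCT n)) g =
        fun n => (S.θ : C → ℂ) (Subgroup.subgroupOfEquivOfLe hCT n) := fun g => by
    funext n
    exact congrFun ((Char.mem_inertia C).mp g.2) (Subgroup.subgroupOfEquivOfLe hCT n)
  have hgoodcard : ∀ s : Finset (T ⧸ C'), (∀ x ∈ s, Good x) →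
      (∀ x ∈ s, ∀ y ∈ s, IsConj x y → x = y) → s.card ≤ (overIrr C S.θ).card := by
    intro s h1 h2
    refine (card_good_le C' hθ' hinv s h1 h2).trans ?_
    have hr : ∀ r : IrrCharacter T, classInner (fun n : C' => (r : T → ℂ) n)
        (fun n => (S.θ : C → ℂ) (Subgroup.subgroupOfEquivOfLe hCT n)) =
        classInner (Char.resTo C T hCT (r : T → ℂ)) (S.θ : C → ℂ) := fun r =>
      Char.classInner_comp_equiv (Subgroup.subgroupOfEquivOfLe hCT)
        (Char.resTo C T hCT (r : T → ℂ)) (S.θ : C → ℂ)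
    have hcc := fun r : {r : IrrCharacter T // classInner (fun n : C' => (r : T → ℂ) n)
        (fun n => (S.θ : C → ℂ) (Subgroup.subgroupOfEquivOfLe hCT n)) ≠ 0} =>
      Char.clifford_correspondence C T S.θ.2 (fun g => Char.mem_inertia C) hCT r.1.2
        (by rw [← hr]; exact r.2)
    rw [← Nat.card_eq_finsetCard (overIrr C S.θ)]
    refine Nat.card_le_card_of_injective
      (fun r => (⟨⟨_, (hcc r).1⟩, mem_over.mpr (by
        rw [(hcc r).2.1, ← hr]; exact r.2)⟩ : ↥(overIrr C S.θ))) ?_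
    intro r r' h
    exact Subtype.ext (Subtype.ext ((hcc r').2.2 _ r.1.2 (by rw [← hr]; exact r.2)
      (congrArg (fun z : ↥(overIrr C S.θ) => ((z : IrrCharacter H) : H → ℂ)) h)))
  have hgood1 : Good (1 : T ⧸ C') :=
    ⟨⊥, inferInstance, one_mem _, bot_le, by rw [orderOf_one]; exact Nat.coprime_one_right _⟩
  have hV : Nat.card (A →* ℂˣ) = 3 := by
    refine card_eq_three_of_action helem φ hφinj hp2 (by rw [hE]; exact hcop) htrans ?_ ?_
    · intro x y hx hy hgx hgy
      by_contra hxy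
      have h := hgoodcard {1, x, y}
        (fun z hz => by
          simp only [Finset.mem_insert, Finset.mem_singleton] at hz
          rcases hz with rfl | rfl | rfl
          exacts [hgood1, hgx, hgy])
        (fun z hz z' hz' hzz => by
          simp only [Finset.mem_insert, Finset.mem_singleton] at hz hz'
          rcases hz with rfl | rfl | rfl <;> rcases hz' with rfl | rfl | rfl <;>
            first
              | rfl
              | exact absurd (isConj_one_right.mp hzz) ‹_›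
              | exact absurd (isConj_one_left.mp hzz) ‹_›
              | exact absurd hzz hxy
              | exact absurd hzz.symm hxy)
      have hne : x ≠ y := fun e => hxy (e ▸ IsConj.refl x)
      rw [Finset.card_insert_of_notMem (by simp [Ne.symm hx, Ne.symm hy]),
        Finset.card_pair hne] at h
      omega
    · rcases hcases with ⟨h, -⟩ | ⟨h, -⟩
      · obtain ⟨a, c, hac, -, -⟩ := hpair _ h
        exact Or.inr ⟨a, c, hE.trans hac⟩
      · refine Or.inl fun x hx => ?_
        by_contra hne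
        have h' := hgoodcard {1, x}
          (fun z hz => by
            simp only [Finset.mem_insert, Finset.mem_singleton] at hz
            rcases hz with rfl | rfl
            exacts [hgood1, hx])
          (fun z hz z' hz' hzz => by
            simp only [Finset.mem_insert, Finset.mem_singleton] at hz hz'
            rcases hz with rfl | rfl <;> rcases hz' with rfl | rfl <;>
              first
                | rfl
                | exact absurd (isConj_one_right.mp hzz) hne
                | exact absurd (isConj_one_left.mp hzz) hne)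
        rw [Finset.card_pair (Ne.symm hne), h] at h'
        omega
  calc Nat.card A = Nat.card (A →* ℂˣ) := hcardL.symm
    _ ≤ 3 := hV.le

end CfsgLib.Blocks.ThreeChars
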