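import Cfsg.Agent.Lib.Blocks.ThreeChars.NormalAbelian
import Cfsg.Agent.Lib.Blocks.NormalDefect.Inertia
import Mathlib.GroupTheory.Frattini

/-!
# Normal defect groups of blocks with at most three characters of height zero
-/

set_option autoImplicit false
set_option linter.unusedSectionVars false
set_option linter.style.haveILetI false

namespace CfsgLib.Blocks.ThreeChars

open Cfsg
open scoped ComplexConjugate CfsgLib.Char

variable {p : ℕ} {G : Type*} [Group G] [Fintype G]

/-- A normal defect group of a block with at most three characters of height zero has at most three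
elements. -/
theorem card_defectGroup_le_three [Fact p.Prime] {M : Ideal AlgInt} (hM : IsPModular p M)
    {B : Set (IrrCharacter G)} (hB : IsPBlock M B) (D : Subgroup G) [hDn : D.Normal]
    (hD : IsDefectGroup p M B D)
    (h0 : Nat.card {χ : IrrCharacter G // χ ∈ B ∧ blockHeight p B (χ : G → ℂ) = 0} ≤ 3) :
    Nat.card D ≤ 3 := by
  classical
  have := isPrime_of_isPModular hM
  have hp : p.Prime := Fact.out
  have hDp : IsPGroup p D := IsDefectGroup.isPGroup hM hD
  set N := ⁅D, D⁆ with hN
  haveI : N.Normal := Subgroup.commutator_normal D D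
  haveI : Fintype (G ⧸ N) := Fintype.ofFinite _
  set π := QuotientGroup.mk' N with hπ
  have hπs : Function.Surjective π := QuotientGroup.mk'_surjective N
  have hND : N ≤ D := Subgroup.commutator_le_self D
  -- a block of the quotient
  obtain ⟨χ₀, hχ₀, htriv⟩ := exists_mem_trivial_on_normal_pgroup hM hB D hDp
  obtain ⟨η₀, hη₀⟩ := exists_inflate_eq_of_ker N χ₀ fun u hu => htriv u (hND hu)
  set B' := blockOf M (η₀ : G ⧸ N → ℂ) with hB'def
  have hB' : IsPBlock M B' := isPBlock_blockOf η₀
  have hinfl : ∀ η ∈ B', inflate π hπs η ∈ B := fun η hη => by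
    refine IsPBlock.mem_of_sameBlock hB hχ₀ ?_
    rw [hη₀]
    exact sameBlock_inflate π hπs (IsPBlock.sameBlock hB' (mem_blockOf_self η₀) hη)
  have hdegi : ∀ η : IrrCharacter (G ⧸ N),
      charDegree (inflate π hπs η : G → ℂ) = charDegree (η : G ⧸ N → ℂ) := fun η => by
    refine Nat.cast_injective (R := ℂ) ?_
    rw [← (irr_degree_eq (inflate π hπs η)).1, ← (irr_degree_eq η).1]
    show (η : G ⧸ N → ℂ) (π 1) = _
    rw [map_one]
  set D' := D.map π with hD'def
  haveI hD'n : D'.Normal := Subgroup.Normal.map hDn π hπs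
  have hD'p : IsPGroup p D' := hDp.map π
  have hab : ∀ x ∈ D', ∀ y ∈ D', x * y = y * x := by
    rintro _ ⟨x, hx, rfl⟩ _ ⟨y, hy, rfl⟩
    rw [← commutatorElement_eq_one_iff_mul_comm, ← map_commutatorElement]
    exact (QuotientGroup.eq_one_iff _).mpr (Subgroup.commutator_mem_commutator hx hy)
  -- the sizes
  set a := (Nat.card G).factorization p
  set δ := (Nat.card N).factorization p with hδ
  have hcardD : Nat.card D = p ^ blockDefect p B := IsDefectGroup.card_eq hM hB hD
  have hker : (π.comp D.subtype).ker = N.subgroupOf D := by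
    ext z
    rw [MonoidHom.mem_ker, MonoidHom.comp_apply, hπ, QuotientGroup.mk'_apply,
      QuotientGroup.eq_one_iff, Subgroup.mem_subgroupOf]
    rfl
  have hcard' : Nat.card D = Nat.card D' * Nat.card N := by
    rw [hD'def, ← Nat.card_congr (Subgroup.subgroupOfEquivOfLe hND).toEquiv,
      Subgroup.card_eq_card_quotient_mul_card_subgroup (N.subgroupOf D)]
    congr 1
    rw [← hker, Nat.card_congr (QuotientGroup.quotientKerEquivRange (π.comp D.subtype)).toEquiv,
      MonoidHom.range_comp, Subgroup.range_subtype]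
  obtain ⟨d', hd'⟩ := IsPGroup.iff_card.mp hD'p
  obtain ⟨δ', hδ'⟩ := IsPGroup.iff_card.mp (hDp.to_le hND)
  have hδδ : δ = δ' := by
    rw [hδ, hδ', hp.factorization_pow, Finsupp.single_eq_same]
  have hd : blockDefect p B = d' + δ := by
    refine Nat.pow_right_injective hp.two_le ?_
    show p ^ blockDefect p B = p ^ (d' + δ)
    rw [← hcardD, hcard', hd', hδ', hδδ, pow_add]
  have ha : a = (Nat.card (G ⧸ N)).factorization p + δ := by
    rw [hδ]
    show (Nat.card G).factorization p = _
    rw [Subgroup.card_eq_card_quotient_mul_card_subgroup N,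
      Nat.factorization_mul Nat.card_pos.ne' Nat.card_pos.ne', Finsupp.add_apply]
  obtain ⟨hdle, -, hall, -⟩ := blockDefect_le_and_degree hM hB
  have hall' : ∀ η ∈ B', (Nat.card (G ⧸ N)).factorization p - d' ≤
      (charDegree (η : G ⧸ N → ℂ)).factorization p := fun η hη => by
    have h := hall _ (hinfl η hη)
    rw [hdegi] at h
    omega
  -- the defect group of the quotient block
  have hB'D : IsDefectGroup p M B' D' := by
    obtain ⟨P, hP⟩ := exists_isDefectGroup hM hB'
    have hle := IsDefectGroup.normal_le hM hB' hP D' hD'p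
    obtain ⟨hd'le, -, -, η, hη, heq⟩ := blockDefect_le_and_degree hM hB'
    have h1 := hall' η hη
    suffices h : D' = P by rwa [h]
    refine Subgroup.eq_of_le_of_card_ge hle ?_
    rw [IsDefectGroup.card_eq hM hB' hP, hd']
    exact Nat.pow_le_pow_right hp.pos (by omega)
  -- its members have height zero above
  have hzero : ∀ η ∈ B', blockHeight p B (inflate π hπs η : G → ℂ) = 0 := fun η hη => by
    refine (blockHeight_eq_zero_iff hM hB (hinfl η hη)).mpr ?_
    rw [hdegi]
    refine le_antisymm ?_ (by have := hall _ (hinfl η hη); rwa [hdegi] at this)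
    haveI : Fintype D' := Fintype.ofFinite _
    obtain ⟨θ, hθ⟩ := Char.exists_constituent D' (Char.isCharacter_of_isIrr η.2)
      (Char.irr_degree_ne_zero η.2)
    obtain ⟨k, hk, hkdvd⟩ := Char.degree_ratio D' θ.2 η.2 hθ
    rw [Char.degree_one_of_comm (fun u v => Subtype.ext (hab _ u.2 _ v.2)) θ, mul_one,
      (irr_degree_eq η).1] at hk
    have hk' : charDegree (η : G ⧸ N → ℂ) = k := Nat.cast_injective hk
    rw [hk']
    have hidx : (D'.index).factorization p = a - blockDefect p B := by
      have h2 : (Nat.card (G ⧸ N)).factorization p = d' + D'.index.factorization p := by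
        rw [← D'.card_mul_index, Nat.factorization_mul Nat.card_pos.ne'
          D'.index_ne_zero_of_finite, Finsupp.add_apply, hd', hp.factorization_pow,
          Finsupp.single_eq_same]
      omega
    rw [← hidx]
    exact (Nat.factorization_le_iff_dvd (fun h => (irr_degree_eq η).2.ne' (hk'.trans h))
      D'.index_ne_zero_of_finite).mpr hkdvd p
  have hk : Nat.card B' ≤ 3 := le_trans (Nat.card_le_card_of_injective
    (fun η : B' => (⟨inflate π hπs η.1, hinfl η.1 η.2, hzero η.1 η.2⟩ :
      {χ : IrrCharacter G // χ ∈ B ∧ blockHeight p B (χ : G → ℂ) = 0}))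
    fun η η' h => Subtype.ext (inflate_injective π hπs (congrArg Subtype.val h))) h0
  have h3 := card_le_three hM hB' D' hab hB'D hk
  -- so the derived quotient is cyclic and the group abelian
  haveI hcyc : IsCyclic D' := by
    rcases Nat.eq_zero_or_pos d' with h | h
    · rw [h, pow_zero] at hd'
      haveI : Subsingleton D' := (Nat.card_eq_one_iff_unique.mp hd').1
      infer_instance
    · have hd1 : d' = 1 := by
        by_contra hne
        have := Nat.pow_le_pow_left hp.two_le d'
        have := Nat.pow_le_pow_right two_pos (show 2 ≤ d' by omega)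
        omega
      exact isCyclic_of_prime_card (p := p) (by rw [hd', hd1, pow_one])
  have hNbot : N = ⊥ := by
    let f : D →* D' := (π.comp D.subtype).codRestrict D' fun z => ⟨(z : G), z.2, rfl⟩
    obtain ⟨w, hw⟩ := IsCyclic.exists_generator (α := D')
    obtain ⟨x, hx, hxw⟩ := w.2
    have hsup : Subgroup.zpowers (⟨x, hx⟩ : D) ⊔ frattini D = ⊤ := by
      refine eq_top_iff.mpr fun z _ => ?_
      obtain ⟨j, hj⟩ := Subgroup.mem_zpowers_iff.mp (hw (f z))
      have hj' : π x ^ j = π (z : G) := by
        rw [hxw]; exact congrArg Subtype.val hj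
      rw [← mul_inv_cancel_left ((⟨x, hx⟩ : D) ^ j) z]
      refine Subgroup.mul_mem_sup (Subgroup.zpow_mem_zpowers _ j)
        ((CfsgLib.PSolvable.commutator_le_frattini hDp).1 ?_)
      have h : ((((⟨x, hx⟩ : D) ^ j)⁻¹ * z : D) : G) ∈ ⁅D, D⁆ := by
        rw [← hN, ← QuotientGroup.eq_one_iff]
        show π (((x : G) ^ j)⁻¹ * (z : G)) = 1
        rw [map_mul, map_inv, map_zpow, hj', inv_mul_cancel]
      rw [← Subgroup.map_subtype_commutator] at h
      obtain ⟨y, hy, hye⟩ := h
      rwa [← Subtype.ext hye]
    have htop : Subgroup.zpowers (⟨x, hx⟩ : D) = ⊤ := frattini_nongenerating hsup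
    rw [hN, eq_bot_iff, Subgroup.commutator_le]
    intro u hu v hv
    rw [Subgroup.mem_bot, commutatorElement_eq_one_iff_mul_comm]
    obtain ⟨i, hi⟩ := Subgroup.mem_zpowers_iff.mp (htop ▸ Subgroup.mem_top (⟨u, hu⟩ : D) :
      (⟨u, hu⟩ : D) ∈ Subgroup.zpowers (⟨x, hx⟩ : D))
    obtain ⟨j, hj⟩ := Subgroup.mem_zpowers_iff.mp (htop ▸ Subgroup.mem_top (⟨v, hv⟩ : D) :
      (⟨v, hv⟩ : D) ∈ Subgroup.zpowers (⟨x, hx⟩ : D))
    have hi' : x ^ i = u := congrArg Subtype.val hi
    have hj' : x ^ j = v := congrArg Subtype.val hj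
    rw [← hi', ← hj', ← zpow_add, ← zpow_add, add_comm]
  rw [hcard', show Nat.card N = 1 from Subgroup.card_eq_one.mpr hNbot, mul_one]
  exact h3

end CfsgLib.Blocks.ThreeChars
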